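import Cfsg.Agent.Lib.CosetEnum.ONOrbit.Facts
import Cfsg.Agent.Lib.CosetEnum.BasePts

/-!
# Equality of words in the presented O'Nan group

An element is determined by the images of six of the 122760 points: the point of the subgroup
`⟨a, …, f⟩` and, inside it, a base of its faithful action on 5586 points.
-/

set_option autoImplicit false
set_option maxRecDepth 20000
set_option Elab.async false

namespace Cfsg.Agent.Lib.ON3Mult

open Cfsg.Agent.Lib.CosetEnum

/-- The presented O'Nan group. -/
abbrev G : Type := ONOrbit.G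

/-- A letter as an element. -/
noncomputable abbrev letterEl (g : ℕ) : G := ON122760.letters.phi ON122760.pres g

/-- The element of a word. -/
noncomputable def el (l : List ℕ) : G := (l.map letterEl).prod

theorem el_append (l l' : List ℕ) : el (l ++ l') = el l * el l' := by
  rw [el, List.map_append, List.prod_append]; rfl

theorem el_nil : el [] = 1 := rfl

theorem el_replicate (l : List ℕ) : ∀ k : ℕ, el (List.replicate k l).flatten = el l ^ k
  | 0 => by simp [el_nil]
  | k + 1 => by rw [List.replicate_succ, List.flatten_cons, el_append, el_replicate l k, pow_succ']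

/-- The letters of a word are small. -/
noncomputable def okWord (l : List ℕ) : Bool := l.all fun g => Nat.blt g 8

/-- The action with the properties used. -/
structure Act where
  ρ : G →* Equiv.Perm (Fin 122760)
  step : ∀ g < 8, ∀ i : Fin 122760,
    ((ρ (letterEl g))⁻¹ i).1 = get32 ON122760.table (i.1 * 8 + g)
  fix : ∀ x, x ∈ ONOrbit.J ↔ ρ x ⟨0, by omega⟩ = ⟨0, by omega⟩
  trans : ∀ i, ∃ x, ρ x ⟨0, by omega⟩ = i
  inj : Function.Injective ρ

theorem exists_act : Nonempty Act := by
  obtain ⟨ρ, hρ, hst, htr, hinj, -, -⟩ := ONOrbit.main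
  exact ⟨⟨ρ, hρ, hst, htr, hinj⟩⟩

theorem card_G : Nat.card G = 460815505920 := by
  obtain ⟨ρ, -, -, -, -, hG, -⟩ := ONOrbit.main
  exact hG

theorem card_J : Nat.card ONOrbit.J = 3753792 := by
  obtain ⟨ρ, -, -, -, -, -, hJ⟩ := ONOrbit.main
  exact hJ

instance finite_G : Finite G := Nat.finite_of_card_ne_zero (by rw [card_G]; norm_num)

theorem Act.scan_eq (a : Act) (l : List ℕ) (hl : ∀ g ∈ l, g < 8) (i : Fin 122760) :
    ((a.ρ (el l))⁻¹ i).1 = scan 8 ON122760.table l i.1 := by
  induction l generalizing i with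
  | nil => simp [el_nil, scan]
  | cons g l ih =>
    rw [show el (g :: l) = letterEl g * el l from rfl, map_mul, mul_inv_rev, Equiv.Perm.mul_apply,
      ih (fun x hx => hl x (List.mem_cons_of_mem _ hx)), a.step g (hl g List.mem_cons_self)]
    change scan 8 ON122760.table l (get32 ON122760.table (i.1 * 8 + g)) =
      force (get32 ON122760.table (Nat.add (Nat.mul i.1 8) g)) (scan 8 ON122760.table l)
    rw [force_eq]; rfl

/-- Base points of the action on 5586 points. -/
def innerBase : List ℕ := [0, 1, 3, 5, 9]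

/-- The six points. -/
def basePts : List ℕ := [0, 12, 40, 28, 77, 185]

theorem basePts_eq :
    basePts = 0 :: innerBase.map fun m => get32 ON122760.orbPts3 m := by decide +kernel

/-- The images of the six points, packed. -/
noncomputable def key (l : List ℕ) : ℕ :=
  List.rec (motive := fun _ => ℕ) 0
    (fun b _ ih => Nat.add (scan 8 ON122760.table l b) (Nat.mul 131072 ih)) basePts

theorem Act.key_eq (a : Act) {l : List ℕ} (hl : ∀ g ∈ l, g < 8) :
    key l = (basePts.map fun b => natApply ((a.ρ (el l))⁻¹) b).foldr (fun x r => x + 131072 * r) 0 := by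
  have h : ∀ bs : List ℕ, (∀ b ∈ bs, b < 122760) →
      List.rec (motive := fun _ => ℕ) 0
        (fun b _ ih => Nat.add (scan 8 ON122760.table l b) (Nat.mul 131072 ih)) bs =
        (bs.map fun b => natApply ((a.ρ (el l))⁻¹) b).foldr (fun x r => x + 131072 * r) 0 := by
    intro bs
    induction bs with
    | nil => intro _; rfl
    | cons b bs ih =>
      intro hb
      have hb0 : b < 122760 := hb b List.mem_cons_self
      simp only [List.map_cons, List.foldr_cons]
      rw [ih fun x hx => hb x (List.mem_cons_of_mem _ hx)]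
      simp only [Nat.add_eq, Nat.mul_eq, natApply, dif_pos hb0, a.scan_eq l hl]
  exact h basePts (by decide)

/-- Equal packed images give equal images. -/
theorem fold_inj : ∀ {xs ys : List ℕ}, (∀ x ∈ xs, x < 131072) → (∀ y ∈ ys, y < 131072) →
    xs.length = ys.length →
    xs.foldr (fun x r => x + 131072 * r) 0 = ys.foldr (fun x r => x + 131072 * r) 0 → xs = ys
  | [], [], _, _, _, _ => rfl
  | [], _ :: _, _, _, h, _ => by simp at h
  | _ :: _, [], _, _, h, _ => by simp at h
  | x :: xs, y :: ys, hx, hy, hlen, h => by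
    simp only [List.foldr_cons] at h
    have h1 : x < 131072 := hx x List.mem_cons_self
    have h2 : y < 131072 := hy y List.mem_cons_self
    obtain ⟨rfl, h3⟩ : x = y ∧ xs.foldr (fun x r => x + 131072 * r) 0 =
        ys.foldr (fun x r => x + 131072 * r) 0 := by omega
    rw [fold_inj (fun z hz => hx z (List.mem_cons_of_mem _ hz))
      (fun z hz => hy z (List.mem_cons_of_mem _ hz)) (by simpa using hlen) h3]

/-- Only the identity fixes the six points. -/
theorem Act.eq_one_of_fix (a : Act) (x : G)
    (h : ∀ i : Fin 122760, i.1 ∈ basePts → a.ρ x i = i) : x = 1 := by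
  classical
  have hxJ : x ∈ ONOrbit.J := (a.fix x).2 (h _ (by simp [basePts]))
  have hres := ONOrbit.restrict_ok
  obtain ⟨ρJ, hρJ, hker⟩ := exists_restrict a.ρ a.step ONOrbit.emb (by decide +kernel) _ _ _ hres
  let gen : ℕ → ONOrbit.J := fun g => if hg : g < ONOrbit.emb.length then
    ⟨letterEl (ONOrbit.emb.getD g 0), Subgroup.subset_closure ⟨[ONOrbit.emb.getD g 0],
      List.mem_map.2 ⟨_, by rw [List.getD_eq_getElem _ _ hg]; exact List.getElem_mem hg, rfl⟩,
      by simp⟩⟩ else 1
  have hgen : ∀ g < ONOrbit.K, ∀ m : Fin 5586,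
      ((ρJ (gen g))⁻¹ m).1 = get32 ONOrbit.table (m.1 * ONOrbit.K + g) := fun g hg m => by
    have hg' : g < ONOrbit.emb.length := hg
    simp only [gen, dif_pos hg']
    exact hρJ g hg' m
  -- the action on the orbit is faithful and its chain is exact
  have hcard : Nat.card ρJ.range = 3753792 :=
    le_antisymm ((Nat.card_le_card_of_surjective ρJ.rangeRestrict
      ρJ.rangeRestrict_surjective).trans_eq card_J) (ONSlp.card_ge ρJ gen hgen)
  have hinj : Function.Injective ρJ := by
    have hb : Function.Bijective ρJ.rangeRestrict :=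
      (Nat.bijective_iff_surjective_and_card _).2
        ⟨ρJ.rangeRestrict_surjective, by rw [hcard, card_J]⟩
    intro u v huv
    exact hb.1 (Subtype.ext huv)
  have htight : Tight ρJ [ONSlp.level0, ONSlp.level1, ONSlp.level2, ONSlp.level3, ONSlp.level4] [] :=
    tight_of_levels ρJ (slp_sound ρJ gen hgen ONSlp.slp_ok) _ [] ONSlp.levels_ok
      ((Nat.card_le_card_of_injective (fun σ => (⟨σ.1, σ.2.1⟩ : ρJ.range))
        fun _ _ huv => Subtype.ext (congrArg (fun z => (z.1 : Equiv.Perm (Fin 5586))) huv)).trans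
          (hcard.trans_le ONSlp.size_eq.ge))
  -- the orbit map intertwines
  have hj := allBelow_iff.1 hres
  simp only [restrictAt, force_eq, Bool.and_eq_true, Nat.blt_eq, Nat.beq_eq, allBelow_iff,
    Nat.add_eq, Nat.mul_eq] at hj
  let f : Fin 5586 → Fin 122760 := fun m => ⟨get32 ON122760.orbPts3 m.1, (hj m.1 m.2).1.1⟩
  have hf : Function.Injective f := by
    intro u v huv
    have : get32 ON122760.orbPts3 u.1 = get32 ON122760.orbPts3 v.1 := congrArg Fin.val huv
    apply Fin.ext
    rw [← (hj u.1 u.2).1.2, this, (hj v.1 v.2).1.2]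
  have hint : ∀ y, ∀ hy : y ∈ ONOrbit.J, ∀ m, a.ρ y (f m) = f (ρJ ⟨y, hy⟩ m) := by
    intro y hy
    induction hy using Subgroup.closure_induction with
    | mem y hy =>
      obtain ⟨l, hl, rfl⟩ := hy
      obtain ⟨e, he, rfl⟩ := List.mem_map.1 hl
      obtain ⟨g, hg, rfl⟩ := List.mem_iff_getElem.1 he
      intro m
      have hgK : g < ONOrbit.K := hg
      have hval : ([ONOrbit.emb[g]].map (ON122760.letters.phi ON122760.pres)).prod = (gen g).1 := by
        simp only [gen, dif_pos hg]
        simp [hg, letterEl]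
        rfl
      refine (congrArg (fun z => a.ρ z (f m)) hval).trans (Eq.trans ?_
        (congrArg (fun z : ONOrbit.J => f (ρJ z m))
          (Subtype.ext hval.symm : gen g = ⟨_, Subgroup.subset_closure ⟨_, hl, rfl⟩⟩)))
      show a.ρ (gen g).1 (f m) = f (ρJ (gen g) m)
      rw [show (gen g).1 = letterEl (ONOrbit.emb.getD g 0) by simp only [gen, dif_pos hg]]
      set m₀ := ρJ (gen g) m with hm₀
      have hback : (ρJ (gen g))⁻¹ m₀ = m := by simp [hm₀]
      have h1 := hgen g hgK m₀
      rw [hback] at h1
      have h2 := (hj m₀.1 m₀.2).2 g hg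
      have h3 : (a.ρ (letterEl (ONOrbit.emb.getD g 0)))⁻¹ (f m₀) = f m := by
        apply Fin.ext
        rw [a.step _ (by
          rw [List.getD_eq_getElem _ _ hg]
          exact (show ∀ e ∈ ONOrbit.emb, e < 8 by decide) _ (List.getElem_mem hg))]
        show _ = get32 ON122760.orbPts3 m.1
        rw [h1]
        exact h2.2.symm
      rw [← h3]
      simp
    | one => intro m; rw [map_one]; exact congrArg f (by rw [show (⟨1, _⟩ : ONOrbit.J) = 1 from rfl, map_one]; rfl)
    | mul u v hu hv ihu ihv =>
      intro m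
      rw [map_mul, Equiv.Perm.mul_apply, ihv, ihu]
      exact congrArg f (by
        rw [show (⟨u * v, _⟩ : ONOrbit.J) = ⟨u, hu⟩ * ⟨v, hv⟩ from rfl, map_mul, Equiv.Perm.mul_apply])
    | inv u hu ih =>
      intro m
      rw [show (⟨u⁻¹, _⟩ : ONOrbit.J) = ⟨u, hu⟩⁻¹ from rfl, map_inv, map_inv, Equiv.Perm.inv_def,
        Equiv.symm_apply_eq, ih, Equiv.Perm.inv_def, Equiv.apply_symm_apply]
  have h1 : ρJ ⟨x, hxJ⟩ = 1 :=
    Tight.eq_one ρJ htight (ρJ ⟨x, hxJ⟩) ⟨⟨_, rfl⟩, by simp⟩ fun l hl b hb => by
      apply hf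
      rw [← hint x hxJ b]
      refine h _ ?_
      show get32 ON122760.orbPts3 b.1 ∈ basePts
      rw [basePts_eq]
      refine List.mem_cons_of_mem _ (List.mem_map.2 ⟨_, ?_, rfl⟩)
      rw [hb]
      simp only [List.mem_cons, List.not_mem_nil, or_false] at hl
      rcases hl with rfl | rfl | rfl | rfl | rfl <;> decide +kernel
  exact congrArg Subtype.val (hinj (h1.trans (map_one ρJ).symm))

/-- Equality of words by the images of six points. -/
theorem el_eq_of_key {l l' : List ℕ} (hl : okWord l = true) (hl' : okWord l' = true)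
    (h : Nat.beq (key l) (key l') = true) : el l = el l' := by
  obtain ⟨a⟩ := exists_act
  simp only [okWord, List.all_eq_true, Nat.blt_eq] at hl hl'
  rw [Nat.beq_eq, a.key_eq hl, a.key_eq hl'] at h
  have hlt : ∀ (σ : Equiv.Perm (Fin 122760)), ∀ x ∈ basePts.map (natApply σ), x < 131072 := by
    intro σ x hx
    obtain ⟨b, hb, rfl⟩ := List.mem_map.1 hx
    have hb' : b < 122760 := (show ∀ b ∈ basePts, b < 122760 by decide) b hb
    simp only [natApply, dif_pos hb']
    exact lt_trans (Fin.is_lt _) (by norm_num)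
  have h2 := fold_inj (hlt _) (hlt _) (by simp) h
  refine mul_inv_eq_one.1 (a.eq_one_of_fix (el l * (el l')⁻¹) fun i hi => ?_)
  have h3 := List.map_inj_left.1 h2 i.1 hi
  simp only [natApply, dif_pos i.2, Fin.eta] at h3
  rw [map_mul, map_inv, Equiv.Perm.mul_apply, ← Fin.ext h3]
  simp

/-- Words with different images are different elements. -/
theorem key_congr {l l' : List ℕ} (hl : okWord l = true) (hl' : okWord l' = true) (h : el l = el l') :
    key l = key l' := by
  obtain ⟨a⟩ := exists_act
  simp only [okWord, List.all_eq_true, Nat.blt_eq] at hl hl'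
  rw [a.key_eq hl, a.key_eq hl', h]

end Cfsg.Agent.Lib.ON3Mult
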