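import Cfsg.Agent.Lib.ON3Mult.Labels

/-! The labels at the points 5115 to 10229. -/

set_option autoImplicit false
set_option maxRecDepth 20000
set_option Elab.async false

namespace Cfsg.Agent.Lib.ON3Mult

open Cfsg.Agent.Lib.CosetEnum

theorem lab_part15 : allFrom 5115 341 labAt = true := by decide +kernel

theorem lab_part16 : allFrom 5456 341 labAt = true := by decide +kernel

theorem lab_part17 : allFrom 5797 341 labAt = true := by decide +kernel

theorem lab_part18 : allFrom 6138 341 labAt = true := by decide +kernel

theorem lab_part19 : allFrom 6479 341 labAt = true := by decide +kernel

theorem lab_part20 : allFrom 6820 341 labAt = true := by decide +kernel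

theorem lab_part21 : allFrom 7161 341 labAt = true := by decide +kernel

theorem lab_part22 : allFrom 7502 341 labAt = true := by decide +kernel

theorem lab_part23 : allFrom 7843 341 labAt = true := by decide +kernel

theorem lab_part24 : allFrom 8184 341 labAt = true := by decide +kernel

theorem lab_part25 : allFrom 8525 341 labAt = true := by decide +kernel

theorem lab_part26 : allFrom 8866 341 labAt = true := by decide +kernel

theorem lab_part27 : allFrom 9207 341 labAt = true := by decide +kernel

theorem lab_part28 : allFrom 9548 341 labAt = true := by decide +kernel

theorem lab_part29 : allFrom 9889 341 labAt = true := by decide +kernel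

end Cfsg.Agent.Lib.ON3Mult
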