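import Cfsg.Agent.Lib.ON3Mult.Labels

/-! The labels at the points 51150 to 56264. -/

set_option autoImplicit false
set_option maxRecDepth 20000
set_option Elab.async false

namespace Cfsg.Agent.Lib.ON3Mult

open Cfsg.Agent.Lib.CosetEnum

theorem lab_part150 : allFrom 51150 341 labAt = true := by decide +kernel

theorem lab_part151 : allFrom 51491 341 labAt = true := by decide +kernel

theorem lab_part152 : allFrom 51832 341 labAt = true := by decide +kernel

theorem lab_part153 : allFrom 52173 341 labAt = true := by decide +kernel

theorem lab_part154 : allFrom 52514 341 labAt = true := by decide +kernel

theorem lab_part155 : allFrom 52855 341 labAt = true := by decide +kernel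

theorem lab_part156 : allFrom 53196 341 labAt = true := by decide +kernel

theorem lab_part157 : allFrom 53537 341 labAt = true := by decide +kernel

theorem lab_part158 : allFrom 53878 341 labAt = true := by decide +kernel

theorem lab_part159 : allFrom 54219 341 labAt = true := by decide +kernel

theorem lab_part160 : allFrom 54560 341 labAt = true := by decide +kernel

theorem lab_part161 : allFrom 54901 341 labAt = true := by decide +kernel

theorem lab_part162 : allFrom 55242 341 labAt = true := by decide +kernel

theorem lab_part163 : allFrom 55583 341 labAt = true := by decide +kernel

theorem lab_part164 : allFrom 55924 341 labAt = true := by decide +kernel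

end Cfsg.Agent.Lib.ON3Mult
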