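import Cfsg.Agent.Lib.ON3Mult.Labels

/-! The labels at the points 56265 to 61379. -/

set_option autoImplicit false
set_option maxRecDepth 20000
set_option Elab.async false

namespace Cfsg.Agent.Lib.ON3Mult

open Cfsg.Agent.Lib.CosetEnum

theorem lab_part165 : allFrom 56265 341 labAt = true := by decide +kernel

theorem lab_part166 : allFrom 56606 341 labAt = true := by decide +kernel

theorem lab_part167 : allFrom 56947 341 labAt = true := by decide +kernel

theorem lab_part168 : allFrom 57288 341 labAt = true := by decide +kernel

theorem lab_part169 : allFrom 57629 341 labAt = true := by decide +kernel

theorem lab_part170 : allFrom 57970 341 labAt = true := by decide +kernel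

theorem lab_part171 : allFrom 58311 341 labAt = true := by decide +kernel

theorem lab_part172 : allFrom 58652 341 labAt = true := by decide +kernel

theorem lab_part173 : allFrom 58993 341 labAt = true := by decide +kernel

theorem lab_part174 : allFrom 59334 341 labAt = true := by decide +kernel

theorem lab_part175 : allFrom 59675 341 labAt = true := by decide +kernel

theorem lab_part176 : allFrom 60016 341 labAt = true := by decide +kernel

theorem lab_part177 : allFrom 60357 341 labAt = true := by decide +kernel

theorem lab_part178 : allFrom 60698 341 labAt = true := by decide +kernel

theorem lab_part179 : allFrom 61039 341 labAt = true := by decide +kernel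

end Cfsg.Agent.Lib.ON3Mult
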