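import Cfsg.Agent.Lib.ON3Mult.Labels

/-! The labels at the points 61380 to 66494. -/

set_option autoImplicit false
set_option maxRecDepth 20000
set_option Elab.async false

namespace Cfsg.Agent.Lib.ON3Mult

open Cfsg.Agent.Lib.CosetEnum

theorem lab_part180 : allFrom 61380 341 labAt = true := by decide +kernel

theorem lab_part181 : allFrom 61721 341 labAt = true := by decide +kernel

theorem lab_part182 : allFrom 62062 341 labAt = true := by decide +kernel

theorem lab_part183 : allFrom 62403 341 labAt = true := by decide +kernel

theorem lab_part184 : allFrom 62744 341 labAt = true := by decide +kernel

theorem lab_part185 : allFrom 63085 341 labAt = true := by decide +kernel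

theorem lab_part186 : allFrom 63426 341 labAt = true := by decide +kernel

theorem lab_part187 : allFrom 63767 341 labAt = true := by decide +kernel

theorem lab_part188 : allFrom 64108 341 labAt = true := by decide +kernel

theorem lab_part189 : allFrom 64449 341 labAt = true := by decide +kernel

theorem lab_part190 : allFrom 64790 341 labAt = true := by decide +kernel

theorem lab_part191 : allFrom 65131 341 labAt = true := by decide +kernel

theorem lab_part192 : allFrom 65472 341 labAt = true := by decide +kernel

theorem lab_part193 : allFrom 65813 341 labAt = true := by decide +kernel

theorem lab_part194 : allFrom 66154 341 labAt = true := by decide +kernel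

end Cfsg.Agent.Lib.ON3Mult
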