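import Cfsg.Agent.Lib.ON3Mult.Labels

/-! The labels at the points 66495 to 71609. -/

set_option autoImplicit false
set_option maxRecDepth 20000
set_option Elab.async false

namespace Cfsg.Agent.Lib.ON3Mult

open Cfsg.Agent.Lib.CosetEnum

theorem lab_part195 : allFrom 66495 341 labAt = true := by decide +kernel

theorem lab_part196 : allFrom 66836 341 labAt = true := by decide +kernel

theorem lab_part197 : allFrom 67177 341 labAt = true := by decide +kernel

theorem lab_part198 : allFrom 67518 341 labAt = true := by decide +kernel

theorem lab_part199 : allFrom 67859 341 labAt = true := by decide +kernel

theorem lab_part200 : allFrom 68200 341 labAt = true := by decide +kernel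

theorem lab_part201 : allFrom 68541 341 labAt = true := by decide +kernel

theorem lab_part202 : allFrom 68882 341 labAt = true := by decide +kernel

theorem lab_part203 : allFrom 69223 341 labAt = true := by decide +kernel

theorem lab_part204 : allFrom 69564 341 labAt = true := by decide +kernel

theorem lab_part205 : allFrom 69905 341 labAt = true := by decide +kernel

theorem lab_part206 : allFrom 70246 341 labAt = true := by decide +kernel

theorem lab_part207 : allFrom 70587 341 labAt = true := by decide +kernel

theorem lab_part208 : allFrom 70928 341 labAt = true := by decide +kernel

theorem lab_part209 : allFrom 71269 341 labAt = true := by decide +kernel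

end Cfsg.Agent.Lib.ON3Mult
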