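import Cfsg.Agent.Lib.ON3Mult.Labels

/-! The labels at the points 76725 to 81839. -/

set_option autoImplicit false
set_option maxRecDepth 20000
set_option Elab.async false

namespace Cfsg.Agent.Lib.ON3Mult

open Cfsg.Agent.Lib.CosetEnum

theorem lab_part225 : allFrom 76725 341 labAt = true := by decide +kernel

theorem lab_part226 : allFrom 77066 341 labAt = true := by decide +kernel

theorem lab_part227 : allFrom 77407 341 labAt = true := by decide +kernel

theorem lab_part228 : allFrom 77748 341 labAt = true := by decide +kernel

theorem lab_part229 : allFrom 78089 341 labAt = true := by decide +kernel

theorem lab_part230 : allFrom 78430 341 labAt = true := by decide +kernel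

theorem lab_part231 : allFrom 78771 341 labAt = true := by decide +kernel

theorem lab_part232 : allFrom 79112 341 labAt = true := by decide +kernel

theorem lab_part233 : allFrom 79453 341 labAt = true := by decide +kernel

theorem lab_part234 : allFrom 79794 341 labAt = true := by decide +kernel

theorem lab_part235 : allFrom 80135 341 labAt = true := by decide +kernel

theorem lab_part236 : allFrom 80476 341 labAt = true := by decide +kernel

theorem lab_part237 : allFrom 80817 341 labAt = true := by decide +kernel

theorem lab_part238 : allFrom 81158 341 labAt = true := by decide +kernel

theorem lab_part239 : allFrom 81499 341 labAt = true := by decide +kernel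

end Cfsg.Agent.Lib.ON3Mult
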