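import Cfsg.Agent.Lib.ON3Mult.Labels

/-! The labels at the points 81840 to 86954. -/

set_option autoImplicit false
set_option maxRecDepth 20000
set_option Elab.async false

namespace Cfsg.Agent.Lib.ON3Mult

open Cfsg.Agent.Lib.CosetEnum

theorem lab_part240 : allFrom 81840 341 labAt = true := by decide +kernel

theorem lab_part241 : allFrom 82181 341 labAt = true := by decide +kernel

theorem lab_part242 : allFrom 82522 341 labAt = true := by decide +kernel

theorem lab_part243 : allFrom 82863 341 labAt = true := by decide +kernel

theorem lab_part244 : allFrom 83204 341 labAt = true := by decide +kernel

theorem lab_part245 : allFrom 83545 341 labAt = true := by decide +kernel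

theorem lab_part246 : allFrom 83886 341 labAt = true := by decide +kernel

theorem lab_part247 : allFrom 84227 341 labAt = true := by decide +kernel

theorem lab_part248 : allFrom 84568 341 labAt = true := by decide +kernel

theorem lab_part249 : allFrom 84909 341 labAt = true := by decide +kernel

theorem lab_part250 : allFrom 85250 341 labAt = true := by decide +kernel

theorem lab_part251 : allFrom 85591 341 labAt = true := by decide +kernel

theorem lab_part252 : allFrom 85932 341 labAt = true := by decide +kernel

theorem lab_part253 : allFrom 86273 341 labAt = true := by decide +kernel

theorem lab_part254 : allFrom 86614 341 labAt = true := by decide +kernel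

end Cfsg.Agent.Lib.ON3Mult
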