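import Cfsg.Agent.Lib.ON3Mult.Labels

/-! The labels at the points 86955 to 92069. -/

set_option autoImplicit false
set_option maxRecDepth 20000
set_option Elab.async false

namespace Cfsg.Agent.Lib.ON3Mult

open Cfsg.Agent.Lib.CosetEnum

theorem lab_part255 : allFrom 86955 341 labAt = true := by decide +kernel

theorem lab_part256 : allFrom 87296 341 labAt = true := by decide +kernel

theorem lab_part257 : allFrom 87637 341 labAt = true := by decide +kernel

theorem lab_part258 : allFrom 87978 341 labAt = true := by decide +kernel

theorem lab_part259 : allFrom 88319 341 labAt = true := by decide +kernel

theorem lab_part260 : allFrom 88660 341 labAt = true := by decide +kernel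

theorem lab_part261 : allFrom 89001 341 labAt = true := by decide +kernel

theorem lab_part262 : allFrom 89342 341 labAt = true := by decide +kernel

theorem lab_part263 : allFrom 89683 341 labAt = true := by decide +kernel

theorem lab_part264 : allFrom 90024 341 labAt = true := by decide +kernel

theorem lab_part265 : allFrom 90365 341 labAt = true := by decide +kernel

theorem lab_part266 : allFrom 90706 341 labAt = true := by decide +kernel

theorem lab_part267 : allFrom 91047 341 labAt = true := by decide +kernel

theorem lab_part268 : allFrom 91388 341 labAt = true := by decide +kernel

theorem lab_part269 : allFrom 91729 341 labAt = true := by decide +kernel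

end Cfsg.Agent.Lib.ON3Mult
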