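import Cfsg.Agent.Lib.ON3Mult.Labels

/-! The labels at the points 92070 to 97184. -/

set_option autoImplicit false
set_option maxRecDepth 20000
set_option Elab.async false

namespace Cfsg.Agent.Lib.ON3Mult

open Cfsg.Agent.Lib.CosetEnum

theorem lab_part270 : allFrom 92070 341 labAt = true := by decide +kernel

theorem lab_part271 : allFrom 92411 341 labAt = true := by decide +kernel

theorem lab_part272 : allFrom 92752 341 labAt = true := by decide +kernel

theorem lab_part273 : allFrom 93093 341 labAt = true := by decide +kernel

theorem lab_part274 : allFrom 93434 341 labAt = true := by decide +kernel

theorem lab_part275 : allFrom 93775 341 labAt = true := by decide +kernel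

theorem lab_part276 : allFrom 94116 341 labAt = true := by decide +kernel

theorem lab_part277 : allFrom 94457 341 labAt = true := by decide +kernel

theorem lab_part278 : allFrom 94798 341 labAt = true := by decide +kernel

theorem lab_part279 : allFrom 95139 341 labAt = true := by decide +kernel

theorem lab_part280 : allFrom 95480 341 labAt = true := by decide +kernel

theorem lab_part281 : allFrom 95821 341 labAt = true := by decide +kernel

theorem lab_part282 : allFrom 96162 341 labAt = true := by decide +kernel

theorem lab_part283 : allFrom 96503 341 labAt = true := by decide +kernel

theorem lab_part284 : allFrom 96844 341 labAt = true := by decide +kernel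

end Cfsg.Agent.Lib.ON3Mult
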