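import Cfsg.Agent.Lib.ON3Mult.Labels

/-! The labels at the points 97185 to 102299. -/

set_option autoImplicit false
set_option maxRecDepth 20000
set_option Elab.async false

namespace Cfsg.Agent.Lib.ON3Mult

open Cfsg.Agent.Lib.CosetEnum

theorem lab_part285 : allFrom 97185 341 labAt = true := by decide +kernel

theorem lab_part286 : allFrom 97526 341 labAt = true := by decide +kernel

theorem lab_part287 : allFrom 97867 341 labAt = true := by decide +kernel

theorem lab_part288 : allFrom 98208 341 labAt = true := by decide +kernel

theorem lab_part289 : allFrom 98549 341 labAt = true := by decide +kernel

theorem lab_part290 : allFrom 98890 341 labAt = true := by decide +kernel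

theorem lab_part291 : allFrom 99231 341 labAt = true := by decide +kernel

theorem lab_part292 : allFrom 99572 341 labAt = true := by decide +kernel

theorem lab_part293 : allFrom 99913 341 labAt = true := by decide +kernel

theorem lab_part294 : allFrom 100254 341 labAt = true := by decide +kernel

theorem lab_part295 : allFrom 100595 341 labAt = true := by decide +kernel

theorem lab_part296 : allFrom 100936 341 labAt = true := by decide +kernel

theorem lab_part297 : allFrom 101277 341 labAt = true := by decide +kernel

theorem lab_part298 : allFrom 101618 341 labAt = true := by decide +kernel

theorem lab_part299 : allFrom 101959 341 labAt = true := by decide +kernel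

end Cfsg.Agent.Lib.ON3Mult
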