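import Cfsg.Agent.Lib.ON3Mult.Labels

/-! The labels at the points 10230 to 15344. -/

set_option autoImplicit false
set_option maxRecDepth 20000
set_option Elab.async false

namespace Cfsg.Agent.Lib.ON3Mult

open Cfsg.Agent.Lib.CosetEnum

theorem lab_part30 : allFrom 10230 341 labAt = true := by decide +kernel

theorem lab_part31 : allFrom 10571 341 labAt = true := by decide +kernel

theorem lab_part32 : allFrom 10912 341 labAt = true := by decide +kernel

theorem lab_part33 : allFrom 11253 341 labAt = true := by decide +kernel

theorem lab_part34 : allFrom 11594 341 labAt = true := by decide +kernel

theorem lab_part35 : allFrom 11935 341 labAt = true := by decide +kernel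

theorem lab_part36 : allFrom 12276 341 labAt = true := by decide +kernel

theorem lab_part37 : allFrom 12617 341 labAt = true := by decide +kernel

theorem lab_part38 : allFrom 12958 341 labAt = true := by decide +kernel

theorem lab_part39 : allFrom 13299 341 labAt = true := by decide +kernel

theorem lab_part40 : allFrom 13640 341 labAt = true := by decide +kernel

theorem lab_part41 : allFrom 13981 341 labAt = true := by decide +kernel

theorem lab_part42 : allFrom 14322 341 labAt = true := by decide +kernel

theorem lab_part43 : allFrom 14663 341 labAt = true := by decide +kernel

theorem lab_part44 : allFrom 15004 341 labAt = true := by decide +kernel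

end Cfsg.Agent.Lib.ON3Mult
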