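import Cfsg.Agent.Lib.ON3Mult.Labels

/-! The labels at the points 102300 to 107414. -/

set_option autoImplicit false
set_option maxRecDepth 20000
set_option Elab.async false

namespace Cfsg.Agent.Lib.ON3Mult

open Cfsg.Agent.Lib.CosetEnum

theorem lab_part300 : allFrom 102300 341 labAt = true := by decide +kernel

theorem lab_part301 : allFrom 102641 341 labAt = true := by decide +kernel

theorem lab_part302 : allFrom 102982 341 labAt = true := by decide +kernel

theorem lab_part303 : allFrom 103323 341 labAt = true := by decide +kernel

theorem lab_part304 : allFrom 103664 341 labAt = true := by decide +kernel

theorem lab_part305 : allFrom 104005 341 labAt = true := by decide +kernel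

theorem lab_part306 : allFrom 104346 341 labAt = true := by decide +kernel

theorem lab_part307 : allFrom 104687 341 labAt = true := by decide +kernel

theorem lab_part308 : allFrom 105028 341 labAt = true := by decide +kernel

theorem lab_part309 : allFrom 105369 341 labAt = true := by decide +kernel

theorem lab_part310 : allFrom 105710 341 labAt = true := by decide +kernel

theorem lab_part311 : allFrom 106051 341 labAt = true := by decide +kernel

theorem lab_part312 : allFrom 106392 341 labAt = true := by decide +kernel

theorem lab_part313 : allFrom 106733 341 labAt = true := by decide +kernel

theorem lab_part314 : allFrom 107074 341 labAt = true := by decide +kernel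

end Cfsg.Agent.Lib.ON3Mult
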