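import Cfsg.Agent.Lib.ON3Mult.Labels

/-! The labels at the points 107415 to 112529. -/

set_option autoImplicit false
set_option maxRecDepth 20000
set_option Elab.async false

namespace Cfsg.Agent.Lib.ON3Mult

open Cfsg.Agent.Lib.CosetEnum

theorem lab_part315 : allFrom 107415 341 labAt = true := by decide +kernel

theorem lab_part316 : allFrom 107756 341 labAt = true := by decide +kernel

theorem lab_part317 : allFrom 108097 341 labAt = true := by decide +kernel

theorem lab_part318 : allFrom 108438 341 labAt = true := by decide +kernel

theorem lab_part319 : allFrom 108779 341 labAt = true := by decide +kernel

theorem lab_part320 : allFrom 109120 341 labAt = true := by decide +kernel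

theorem lab_part321 : allFrom 109461 341 labAt = true := by decide +kernel

theorem lab_part322 : allFrom 109802 341 labAt = true := by decide +kernel

theorem lab_part323 : allFrom 110143 341 labAt = true := by decide +kernel

theorem lab_part324 : allFrom 110484 341 labAt = true := by decide +kernel

theorem lab_part325 : allFrom 110825 341 labAt = true := by decide +kernel

theorem lab_part326 : allFrom 111166 341 labAt = true := by decide +kernel

theorem lab_part327 : allFrom 111507 341 labAt = true := by decide +kernel

theorem lab_part328 : allFrom 111848 341 labAt = true := by decide +kernel

theorem lab_part329 : allFrom 112189 341 labAt = true := by decide +kernel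

end Cfsg.Agent.Lib.ON3Mult
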