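import Cfsg.Agent.Lib.ON3Mult.Labels

/-! The labels at the points 112530 to 117644. -/

set_option autoImplicit false
set_option maxRecDepth 20000
set_option Elab.async false

namespace Cfsg.Agent.Lib.ON3Mult

open Cfsg.Agent.Lib.CosetEnum

theorem lab_part330 : allFrom 112530 341 labAt = true := by decide +kernel

theorem lab_part331 : allFrom 112871 341 labAt = true := by decide +kernel

theorem lab_part332 : allFrom 113212 341 labAt = true := by decide +kernel

theorem lab_part333 : allFrom 113553 341 labAt = true := by decide +kernel

theorem lab_part334 : allFrom 113894 341 labAt = true := by decide +kernel

theorem lab_part335 : allFrom 114235 341 labAt = true := by decide +kernel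

theorem lab_part336 : allFrom 114576 341 labAt = true := by decide +kernel

theorem lab_part337 : allFrom 114917 341 labAt = true := by decide +kernel

theorem lab_part338 : allFrom 115258 341 labAt = true := by decide +kernel

theorem lab_part339 : allFrom 115599 341 labAt = true := by decide +kernel

theorem lab_part340 : allFrom 115940 341 labAt = true := by decide +kernel

theorem lab_part341 : allFrom 116281 341 labAt = true := by decide +kernel

theorem lab_part342 : allFrom 116622 341 labAt = true := by decide +kernel

theorem lab_part343 : allFrom 116963 341 labAt = true := by decide +kernel

theorem lab_part344 : allFrom 117304 341 labAt = true := by decide +kernel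

end Cfsg.Agent.Lib.ON3Mult
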