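import Cfsg.Agent.Lib.ON3Mult.Labels

/-! The labels at the points 117645 to 122759. -/

set_option autoImplicit false
set_option maxRecDepth 20000
set_option Elab.async false

namespace Cfsg.Agent.Lib.ON3Mult

open Cfsg.Agent.Lib.CosetEnum

theorem lab_part345 : allFrom 117645 341 labAt = true := by decide +kernel

theorem lab_part346 : allFrom 117986 341 labAt = true := by decide +kernel

theorem lab_part347 : allFrom 118327 341 labAt = true := by decide +kernel

theorem lab_part348 : allFrom 118668 341 labAt = true := by decide +kernel

theorem lab_part349 : allFrom 119009 341 labAt = true := by decide +kernel

theorem lab_part350 : allFrom 119350 341 labAt = true := by decide +kernel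

theorem lab_part351 : allFrom 119691 341 labAt = true := by decide +kernel

theorem lab_part352 : allFrom 120032 341 labAt = true := by decide +kernel

theorem lab_part353 : allFrom 120373 341 labAt = true := by decide +kernel

theorem lab_part354 : allFrom 120714 341 labAt = true := by decide +kernel

theorem lab_part355 : allFrom 121055 341 labAt = true := by decide +kernel

theorem lab_part356 : allFrom 121396 341 labAt = true := by decide +kernel

theorem lab_part357 : allFrom 121737 341 labAt = true := by decide +kernel

theorem lab_part358 : allFrom 122078 341 labAt = true := by decide +kernel

theorem lab_part359 : allFrom 122419 341 labAt = true := by decide +kernel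

end Cfsg.Agent.Lib.ON3Mult
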