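import Cfsg.Agent.Lib.ON3Mult.Labels

/-! The labels at the points 15345 to 20459. -/

set_option autoImplicit false
set_option maxRecDepth 20000
set_option Elab.async false

namespace Cfsg.Agent.Lib.ON3Mult

open Cfsg.Agent.Lib.CosetEnum

theorem lab_part45 : allFrom 15345 341 labAt = true := by decide +kernel

theorem lab_part46 : allFrom 15686 341 labAt = true := by decide +kernel

theorem lab_part47 : allFrom 16027 341 labAt = true := by decide +kernel

theorem lab_part48 : allFrom 16368 341 labAt = true := by decide +kernel

theorem lab_part49 : allFrom 16709 341 labAt = true := by decide +kernel

theorem lab_part50 : allFrom 17050 341 labAt = true := by decide +kernel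

theorem lab_part51 : allFrom 17391 341 labAt = true := by decide +kernel

theorem lab_part52 : allFrom 17732 341 labAt = true := by decide +kernel

theorem lab_part53 : allFrom 18073 341 labAt = true := by decide +kernel

theorem lab_part54 : allFrom 18414 341 labAt = true := by decide +kernel

theorem lab_part55 : allFrom 18755 341 labAt = true := by decide +kernel

theorem lab_part56 : allFrom 19096 341 labAt = true := by decide +kernel

theorem lab_part57 : allFrom 19437 341 labAt = true := by decide +kernel

theorem lab_part58 : allFrom 19778 341 labAt = true := by decide +kernel

theorem lab_part59 : allFrom 20119 341 labAt = true := by decide +kernel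

end Cfsg.Agent.Lib.ON3Mult
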