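import Cfsg.Agent.Lib.ON3Mult.Labels

/-! The labels at the points 20460 to 25574. -/

set_option autoImplicit false
set_option maxRecDepth 20000
set_option Elab.async false

namespace Cfsg.Agent.Lib.ON3Mult

open Cfsg.Agent.Lib.CosetEnum

theorem lab_part60 : allFrom 20460 341 labAt = true := by decide +kernel

theorem lab_part61 : allFrom 20801 341 labAt = true := by decide +kernel

theorem lab_part62 : allFrom 21142 341 labAt = true := by decide +kernel

theorem lab_part63 : allFrom 21483 341 labAt = true := by decide +kernel

theorem lab_part64 : allFrom 21824 341 labAt = true := by decide +kernel

theorem lab_part65 : allFrom 22165 341 labAt = true := by decide +kernel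

theorem lab_part66 : allFrom 22506 341 labAt = true := by decide +kernel

theorem lab_part67 : allFrom 22847 341 labAt = true := by decide +kernel

theorem lab_part68 : allFrom 23188 341 labAt = true := by decide +kernel

theorem lab_part69 : allFrom 23529 341 labAt = true := by decide +kernel

theorem lab_part70 : allFrom 23870 341 labAt = true := by decide +kernel

theorem lab_part71 : allFrom 24211 341 labAt = true := by decide +kernel

theorem lab_part72 : allFrom 24552 341 labAt = true := by decide +kernel

theorem lab_part73 : allFrom 24893 341 labAt = true := by decide +kernel

theorem lab_part74 : allFrom 25234 341 labAt = true := by decide +kernel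

end Cfsg.Agent.Lib.ON3Mult
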