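import Cfsg.Agent.Lib.ON3Mult.Labels

/-! The labels at the points 25575 to 30689. -/

set_option autoImplicit false
set_option maxRecDepth 20000
set_option Elab.async false

namespace Cfsg.Agent.Lib.ON3Mult

open Cfsg.Agent.Lib.CosetEnum

theorem lab_part75 : allFrom 25575 341 labAt = true := by decide +kernel

theorem lab_part76 : allFrom 25916 341 labAt = true := by decide +kernel

theorem lab_part77 : allFrom 26257 341 labAt = true := by decide +kernel

theorem lab_part78 : allFrom 26598 341 labAt = true := by decide +kernel

theorem lab_part79 : allFrom 26939 341 labAt = true := by decide +kernel

theorem lab_part80 : allFrom 27280 341 labAt = true := by decide +kernel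

theorem lab_part81 : allFrom 27621 341 labAt = true := by decide +kernel

theorem lab_part82 : allFrom 27962 341 labAt = true := by decide +kernel

theorem lab_part83 : allFrom 28303 341 labAt = true := by decide +kernel

theorem lab_part84 : allFrom 28644 341 labAt = true := by decide +kernel

theorem lab_part85 : allFrom 28985 341 labAt = true := by decide +kernel

theorem lab_part86 : allFrom 29326 341 labAt = true := by decide +kernel

theorem lab_part87 : allFrom 29667 341 labAt = true := by decide +kernel

theorem lab_part88 : allFrom 30008 341 labAt = true := by decide +kernel

theorem lab_part89 : allFrom 30349 341 labAt = true := by decide +kernel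

end Cfsg.Agent.Lib.ON3Mult
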