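import Cfsg.Agent.Lib.ON3Mult.Labels

/-! The labels at the points 30690 to 35804. -/

set_option autoImplicit false
set_option maxRecDepth 20000
set_option Elab.async false

namespace Cfsg.Agent.Lib.ON3Mult

open Cfsg.Agent.Lib.CosetEnum

theorem lab_part90 : allFrom 30690 341 labAt = true := by decide +kernel

theorem lab_part91 : allFrom 31031 341 labAt = true := by decide +kernel

theorem lab_part92 : allFrom 31372 341 labAt = true := by decide +kernel

theorem lab_part93 : allFrom 31713 341 labAt = true := by decide +kernel

theorem lab_part94 : allFrom 32054 341 labAt = true := by decide +kernel

theorem lab_part95 : allFrom 32395 341 labAt = true := by decide +kernel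

theorem lab_part96 : allFrom 32736 341 labAt = true := by decide +kernel

theorem lab_part97 : allFrom 33077 341 labAt = true := by decide +kernel

theorem lab_part98 : allFrom 33418 341 labAt = true := by decide +kernel

theorem lab_part99 : allFrom 33759 341 labAt = true := by decide +kernel

theorem lab_part100 : allFrom 34100 341 labAt = true := by decide +kernel

theorem lab_part101 : allFrom 34441 341 labAt = true := by decide +kernel

theorem lab_part102 : allFrom 34782 341 labAt = true := by decide +kernel

theorem lab_part103 : allFrom 35123 341 labAt = true := by decide +kernel

theorem lab_part104 : allFrom 35464 341 labAt = true := by decide +kernel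

end Cfsg.Agent.Lib.ON3Mult
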