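import Cfsg.Agent.Lib.ON3Mult.Labels

/-! The labels at the points 35805 to 40919. -/

set_option autoImplicit false
set_option maxRecDepth 20000
set_option Elab.async false

namespace Cfsg.Agent.Lib.ON3Mult

open Cfsg.Agent.Lib.CosetEnum

theorem lab_part105 : allFrom 35805 341 labAt = true := by decide +kernel

theorem lab_part106 : allFrom 36146 341 labAt = true := by decide +kernel

theorem lab_part107 : allFrom 36487 341 labAt = true := by decide +kernel

theorem lab_part108 : allFrom 36828 341 labAt = true := by decide +kernel

theorem lab_part109 : allFrom 37169 341 labAt = true := by decide +kernel

theorem lab_part110 : allFrom 37510 341 labAt = true := by decide +kernel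

theorem lab_part111 : allFrom 37851 341 labAt = true := by decide +kernel

theorem lab_part112 : allFrom 38192 341 labAt = true := by decide +kernel

theorem lab_part113 : allFrom 38533 341 labAt = true := by decide +kernel

theorem lab_part114 : allFrom 38874 341 labAt = true := by decide +kernel

theorem lab_part115 : allFrom 39215 341 labAt = true := by decide +kernel

theorem lab_part116 : allFrom 39556 341 labAt = true := by decide +kernel

theorem lab_part117 : allFrom 39897 341 labAt = true := by decide +kernel

theorem lab_part118 : allFrom 40238 341 labAt = true := by decide +kernel

theorem lab_part119 : allFrom 40579 341 labAt = true := by decide +kernel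

end Cfsg.Agent.Lib.ON3Mult
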