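import Cfsg.Agent.Lib.ON3Mult.Labels

/-! The labels at the points 40920 to 46034. -/

set_option autoImplicit false
set_option maxRecDepth 20000
set_option Elab.async false

namespace Cfsg.Agent.Lib.ON3Mult

open Cfsg.Agent.Lib.CosetEnum

theorem lab_part120 : allFrom 40920 341 labAt = true := by decide +kernel

theorem lab_part121 : allFrom 41261 341 labAt = true := by decide +kernel

theorem lab_part122 : allFrom 41602 341 labAt = true := by decide +kernel

theorem lab_part123 : allFrom 41943 341 labAt = true := by decide +kernel

theorem lab_part124 : allFrom 42284 341 labAt = true := by decide +kernel

theorem lab_part125 : allFrom 42625 341 labAt = true := by decide +kernel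

theorem lab_part126 : allFrom 42966 341 labAt = true := by decide +kernel

theorem lab_part127 : allFrom 43307 341 labAt = true := by decide +kernel

theorem lab_part128 : allFrom 43648 341 labAt = true := by decide +kernel

theorem lab_part129 : allFrom 43989 341 labAt = true := by decide +kernel

theorem lab_part130 : allFrom 44330 341 labAt = true := by decide +kernel

theorem lab_part131 : allFrom 44671 341 labAt = true := by decide +kernel

theorem lab_part132 : allFrom 45012 341 labAt = true := by decide +kernel

theorem lab_part133 : allFrom 45353 341 labAt = true := by decide +kernel

theorem lab_part134 : allFrom 45694 341 labAt = true := by decide +kernel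

end Cfsg.Agent.Lib.ON3Mult
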