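import Cfsg.Agent.Lib.ON3Mult.Labels

/-! The labels at the points 46035 to 51149. -/

set_option autoImplicit false
set_option maxRecDepth 20000
set_option Elab.async false

namespace Cfsg.Agent.Lib.ON3Mult

open Cfsg.Agent.Lib.CosetEnum

theorem lab_part135 : allFrom 46035 341 labAt = true := by decide +kernel

theorem lab_part136 : allFrom 46376 341 labAt = true := by decide +kernel

theorem lab_part137 : allFrom 46717 341 labAt = true := by decide +kernel

theorem lab_part138 : allFrom 47058 341 labAt = true := by decide +kernel

theorem lab_part139 : allFrom 47399 341 labAt = true := by decide +kernel

theorem lab_part140 : allFrom 47740 341 labAt = true := by decide +kernel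

theorem lab_part141 : allFrom 48081 341 labAt = true := by decide +kernel

theorem lab_part142 : allFrom 48422 341 labAt = true := by decide +kernel

theorem lab_part143 : allFrom 48763 341 labAt = true := by decide +kernel

theorem lab_part144 : allFrom 49104 341 labAt = true := by decide +kernel

theorem lab_part145 : allFrom 49445 341 labAt = true := by decide +kernel

theorem lab_part146 : allFrom 49786 341 labAt = true := by decide +kernel

theorem lab_part147 : allFrom 50127 341 labAt = true := by decide +kernel

theorem lab_part148 : allFrom 50468 341 labAt = true := by decide +kernel

theorem lab_part149 : allFrom 50809 341 labAt = true := by decide +kernel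

end Cfsg.Agent.Lib.ON3Mult
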