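import Cfsg.Agent.Lib.ON3Mult.LabCheck0
import Cfsg.Agent.Lib.ON3Mult.LabCheck1
import Cfsg.Agent.Lib.ON3Mult.LabCheck2
import Cfsg.Agent.Lib.ON3Mult.LabCheck3
import Cfsg.Agent.Lib.ON3Mult.LabCheck4
import Cfsg.Agent.Lib.ON3Mult.LabCheck5
import Cfsg.Agent.Lib.ON3Mult.LabCheck6
import Cfsg.Agent.Lib.ON3Mult.LabCheck7
import Cfsg.Agent.Lib.ON3Mult.LabCheck8
import Cfsg.Agent.Lib.ON3Mult.LabCheck9
import Cfsg.Agent.Lib.ON3Mult.LabCheck10
import Cfsg.Agent.Lib.ON3Mult.LabCheck11
import Cfsg.Agent.Lib.ON3Mult.LabCheck12
import Cfsg.Agent.Lib.ON3Mult.LabCheck13
import Cfsg.Agent.Lib.ON3Mult.LabCheck14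
import Cfsg.Agent.Lib.ON3Mult.LabCheck15
import Cfsg.Agent.Lib.ON3Mult.LabCheck16
import Cfsg.Agent.Lib.ON3Mult.LabCheck17
import Cfsg.Agent.Lib.ON3Mult.LabCheck18
import Cfsg.Agent.Lib.ON3Mult.LabCheck19
import Cfsg.Agent.Lib.ON3Mult.LabCheck20
import Cfsg.Agent.Lib.ON3Mult.LabCheck21
import Cfsg.Agent.Lib.ON3Mult.LabCheck22
import Cfsg.Agent.Lib.ON3Mult.LabCheck23

/-! The labels at all points. -/

set_option autoImplicit false
set_option maxRecDepth 20000

namespace Cfsg.Agent.Lib.ON3Mult

open Cfsg.Agent.Lib.CosetEnum

theorem lab_ok : allBelow 122760 labAt = true :=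
  (allBelow_add (allBelow_add (allBelow_add (allBelow_add (allBelow_add (allBelow_add (allBelow_add (allBelow_add (allBelow_add (allBelow_add (allBelow_add (allBelow_add (allBelow_add (allBelow_add (allBelow_add (allBelow_add (allBelow_add (allBelow_add (allBelow_add (allBelow_add (allBelow_add (allBelow_add (allBelow_add (allBelow_add (allBelow_add (allBelow_add (allBelow_add (allBelow_add (allBelow_add (allBelow_add (allBelow_add (allBelow_add (allBelow_add (allBelow_add (allBelow_add (allBelow_add (allBelow_add (allBelow_add (allBelow_add (allBelow_add (allBelow_add (allBelow_add (allBelow_add (allBelow_add (allBelow_add (allBelow_add (allBelow_add (allBelow_add (allBelow_add (allBelow_add (allBelow_add (allBelow_add (allBelow_add (allBelow_add (allBelow_add (allBelow_add (allBelow_add (allBelow_add (allBelow_add (allBelow_add (allBelow_add (allBelow_add (allBelow_add (allBelow_add (allBelow_add (allBelow_add (allBelow_add (allBelow_add (allBelow_add (allBelow_add (allBelow_add (allBelow_add (allBelow_add (allBelow_add (allBelow_add (allBelow_add (allBelow_add (allBelow_add (allBelow_add (allBelow_add (allBelow_add (allBelow_add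 (allBelow_add (allBelow_add (allBelow_add (allBelow_add (allBelow_add (allBelow_add (allBelow_add (allBelow_add (allBelow_add (allBelow_add (allBelow_add (allBelow_add (allBelow_add (allBelow_add (allBelow_add (allBelow_add (allBelow_add (allBelow_add (allBelow_add (allBelow_add (allBelow_add (allBelow_add (allBelow_add (allBelow_add (allBelow_add (allBelow_add (allBelow_add (allBelow_add (allBelow_add (allBelow_add (allBelow_add (allBelow_add (allBelow_add (allBelow_add (allBelow_add (allBelow_add (allBelow_add (allBelow_add (allBelow_add (allBelow_add (allBelow_add (allBelow_add (allBelow_add (allBelow_add (allBelow_add (allBelow_add (allBelow_add (allBelow_add (allBelow_add (allBelow_add (allBelow_add (allBelow_add (allBelow_add (allBelow_add (allBelow_add (allBelow_add (allBelow_add (allBelow_add (allBelow_add (allBelow_add (allBelow_add (allBelow_add (allBelow_add (allBelow_add (allBelow_add (allBelow_add (allBelow_add (allBelow_add (allBelow_add (allBelow_add (allBelow_add (allBelow_add (allBelow_add (allBelow_add (allBelow_add (allBelow_add (allBelow_add (allBelow_add (allBelow_add (allBelow_add (allBelow_add (allBelow_add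 (allBelow_add (allBelow_add (allBelow_add (allBelow_add (allBelow_add (allBelow_add (allBelow_add (allBelow_add (allBelow_add (allBelow_add (allBelow_add (allBelow_add (allBelow_add (allBelow_add (allBelow_add (allBelow_add (allBelow_add (allBelow_add (allBelow_add (allBelow_add (allBelow_add (allBelow_add (allBelow_add (allBelow_add (allBelow_add (allBelow_add (allBelow_add (allBelow_add (allBelow_add (allBelow_add (allBelow_add (allBelow_add (allBelow_add (allBelow_add (allBelow_add (allBelow_add (allBelow_add (allBelow_add (allBelow_add (allBelow_add (allBelow_add (allBelow_add (allBelow_add (allBelow_add (allBelow_add (allBelow_add (allBelow_add (allBelow_add (allBelow_add (allBelow_add (allBelow_add (allBelow_add (allBelow_add (allBelow_add (allBelow_add (allBelow_add (allBelow_add (allBelow_add (allBelow_add (allBelow_add (allBelow_add (allBelow_add (allBelow_add (allBelow_add (allBelow_add (allBelow_add (allBelow_add (allBelow_add (allBelow_add (allBelow_add (allBelow_add (allBelow_add (allBelow_add (allBelow_add (allBelow_add (allBelow_add (allBelow_add (allBelow_add (allBelow_add (allBelow_add (allBelow_add (allBelow_add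 (allBelow_add (allBelow_add (allBelow_add (allBelow_add (allBelow_add (allBelow_add (allBelow_add (allBelow_add (allBelow_add (allBelow_add (allBelow_add (allBelow_add (allBelow_add (allBelow_add (allBelow_add (allBelow_add (allBelow_add (allBelow_add (allBelow_add (allBelow_add (allBelow_add (allBelow_add (allBelow_add (allBelow_add (allBelow_add (allBelow_add (allBelow_add (allBelow_add (allBelow_add (allBelow_add (allBelow_add (allBelow_add (allBelow_add (allBelow_add (allBelow_add (allBelow_add (allBelow_add (allBelow_add (allBelow_add (allBelow_add (allBelow_add (allBelow_add (allBelow_add (allBelow_add (allBelow_add (allBelow_add (allBelow_add (allBelow_add (allBelow_add (allBelow_add (allBelow_add (allBelow_add (allBelow_add (allBelow_add (allBelow_add (allBelow_add (allBelow_add (allBelow_add (allBelow_add (allBelow_add (allBelow_add (allBelow_add (allBelow_add (allBelow_add (allBelow_add (allBelow_add (allBelow_add (allBelow_add (allBelow_add (allBelow_add (allBelow_add (allBelow_add (allBelow_add (allBelow_add (allBelow_add (allBelow_add (allBelow_add (allBelow_add (allBelow_add (allBelow_add (allBelow_add (allBelow_add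 (allBelow_add (allBelow_add (allBelow_add (allBelow_add (allBelow_add (allBelow_add (allBelow_add (allBelow_add (allBelow_add (allBelow_add (allBelow_add (allBelow_add (allBelow_add (allBelow_add (allBelow_add (allBelow_add (allBelow_add (allBelow_add (allBelow_add (allBelow_add (allBelow_add (allBelow_add (allBelow_add (allBelow_add (allBelow_add (allBelow_add (allBelow_add (allBelow_add (allBelow_add (allBelow_add (allBelow_add (allBelow_add (rfl : allBelow 0 labAt = true) lab_part0
    (by omega : 0 + 341 = 341)) lab_part1
    (by omega : 341 + 341 = 682)) lab_part2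
    (by omega : 682 + 341 = 1023)) lab_part3
    (by omega : 1023 + 341 = 1364)) lab_part4
    (by omega : 1364 + 341 = 1705)) lab_part5
    (by omega : 1705 + 341 = 2046)) lab_part6
    (by omega : 2046 + 341 = 2387)) lab_part7
    (by omega : 2387 + 341 = 2728)) lab_part8
    (by omega : 2728 + 341 = 3069)) lab_part9
    (by omega : 3069 + 341 = 3410)) lab_part10
    (by omega : 3410 + 341 = 3751)) lab_part11
    (by omega : 3751 + 341 = 4092)) lab_part12
    (by omega : 4092 + 341 = 4433)) lab_part13
    (by omega : 4433 + 341 = 4774)) lab_part14
    (by omega : 4774 + 341 = 5115)) lab_part15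
    (by omega : 5115 + 341 = 5456)) lab_part16
    (by omega : 5456 + 341 = 5797)) lab_part17
    (by omega : 5797 + 341 = 6138)) lab_part18
    (by omega : 6138 + 341 = 6479)) lab_part19
    (by omega : 6479 + 341 = 6820)) lab_part20
    (by omega : 6820 + 341 = 7161)) lab_part21
    (by omega : 7161 + 341 = 7502)) lab_part22
    (by omega : 7502 + 341 = 7843)) lab_part23
    (by omega : 7843 + 341 = 8184)) lab_part24
    (by omega : 8184 + 341 = 8525)) lab_part25
    (by omega : 8525 + 341 = 8866)) lab_part26
    (by omega : 8866 + 341 = 9207)) lab_part27
    (by omega : 9207 + 341 = 9548)) lab_part28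
    (by omega : 9548 + 341 = 9889)) lab_part29
    (by omega : 9889 + 341 = 10230)) lab_part30
    (by omega : 10230 + 341 = 10571)) lab_part31
    (by omega : 10571 + 341 = 10912)) lab_part32
    (by omega : 10912 + 341 = 11253)) lab_part33
    (by omega : 11253 + 341 = 11594)) lab_part34
    (by omega : 11594 + 341 = 11935)) lab_part35
    (by omega : 11935 + 341 = 12276)) lab_part36
    (by omega : 12276 + 341 = 12617)) lab_part37
    (by omega : 12617 + 341 = 12958)) lab_part38
    (by omega : 12958 + 341 = 13299)) lab_part39
    (by omega : 13299 + 341 = 13640)) lab_part40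
    (by omega : 13640 + 341 = 13981)) lab_part41
    (by omega : 13981 + 341 = 14322)) lab_part42
    (by omega : 14322 + 341 = 14663)) lab_part43
    (by omega : 14663 + 341 = 15004)) lab_part44
    (by omega : 15004 + 341 = 15345)) lab_part45
    (by omega : 15345 + 341 = 15686)) lab_part46
    (by omega : 15686 + 341 = 16027)) lab_part47
    (by omega : 16027 + 341 = 16368)) lab_part48
    (by omega : 16368 + 341 = 16709)) lab_part49
    (by omega : 16709 + 341 = 17050)) lab_part50
    (by omega : 17050 + 341 = 17391)) lab_part51
    (by omega : 17391 + 341 = 17732)) lab_part52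
    (by omega : 17732 + 341 = 18073)) lab_part53
    (by omega : 18073 + 341 = 18414)) lab_part54
    (by omega : 18414 + 341 = 18755)) lab_part55
    (by omega : 18755 + 341 = 19096)) lab_part56
    (by omega : 19096 + 341 = 19437)) lab_part57
    (by omega : 19437 + 341 = 19778)) lab_part58
    (by omega : 19778 + 341 = 20119)) lab_part59
    (by omega : 20119 + 341 = 20460)) lab_part60
    (by omega : 20460 + 341 = 20801)) lab_part61
    (by omega : 20801 + 341 = 21142)) lab_part62
    (by omega : 21142 + 341 = 21483)) lab_part63
    (by omega : 21483 + 341 = 21824)) lab_part64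
    (by omega : 21824 + 341 = 22165)) lab_part65
    (by omega : 22165 + 341 = 22506)) lab_part66
    (by omega : 22506 + 341 = 22847)) lab_part67
    (by omega : 22847 + 341 = 23188)) lab_part68
    (by omega : 23188 + 341 = 23529)) lab_part69
    (by omega : 23529 + 341 = 23870)) lab_part70
    (by omega : 23870 + 341 = 24211)) lab_part71
    (by omega : 24211 + 341 = 24552)) lab_part72
    (by omega : 24552 + 341 = 24893)) lab_part73
    (by omega : 24893 + 341 = 25234)) lab_part74
    (by omega : 25234 + 341 = 25575)) lab_part75
    (by omega : 25575 + 341 = 25916)) lab_part76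
    (by omega : 25916 + 341 = 26257)) lab_part77
    (by omega : 26257 + 341 = 26598)) lab_part78
    (by omega : 26598 + 341 = 26939)) lab_part79
    (by omega : 26939 + 341 = 27280)) lab_part80
    (by omega : 27280 + 341 = 27621)) lab_part81
    (by omega : 27621 + 341 = 27962)) lab_part82
    (by omega : 27962 + 341 = 28303)) lab_part83
    (by omega : 28303 + 341 = 28644)) lab_part84
    (by omega : 28644 + 341 = 28985)) lab_part85
    (by omega : 28985 + 341 = 29326)) lab_part86
    (by omega : 29326 + 341 = 29667)) lab_part87
    (by omega : 29667 + 341 = 30008)) lab_part88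
    (by omega : 30008 + 341 = 30349)) lab_part89
    (by omega : 30349 + 341 = 30690)) lab_part90
    (by omega : 30690 + 341 = 31031)) lab_part91
    (by omega : 31031 + 341 = 31372)) lab_part92
    (by omega : 31372 + 341 = 31713)) lab_part93
    (by omega : 31713 + 341 = 32054)) lab_part94
    (by omega : 32054 + 341 = 32395)) lab_part95
    (by omega : 32395 + 341 = 32736)) lab_part96
    (by omega : 32736 + 341 = 33077)) lab_part97
    (by omega : 33077 + 341 = 33418)) lab_part98
    (by omega : 33418 + 341 = 33759)) lab_part99
    (by omega : 33759 + 341 = 34100)) lab_part100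
    (by omega : 34100 + 341 = 34441)) lab_part101
    (by omega : 34441 + 341 = 34782)) lab_part102
    (by omega : 34782 + 341 = 35123)) lab_part103
    (by omega : 35123 + 341 = 35464)) lab_part104
    (by omega : 35464 + 341 = 35805)) lab_part105
    (by omega : 35805 + 341 = 36146)) lab_part106
    (by omega : 36146 + 341 = 36487)) lab_part107
    (by omega : 36487 + 341 = 36828)) lab_part108
    (by omega : 36828 + 341 = 37169)) lab_part109
    (by omega : 37169 + 341 = 37510)) lab_part110
    (by omega : 37510 + 341 = 37851)) lab_part111
    (by omega : 37851 + 341 = 38192)) lab_part112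
    (by omega : 38192 + 341 = 38533)) lab_part113
    (by omega : 38533 + 341 = 38874)) lab_part114
    (by omega : 38874 + 341 = 39215)) lab_part115
    (by omega : 39215 + 341 = 39556)) lab_part116
    (by omega : 39556 + 341 = 39897)) lab_part117
    (by omega : 39897 + 341 = 40238)) lab_part118
    (by omega : 40238 + 341 = 40579)) lab_part119
    (by omega : 40579 + 341 = 40920)) lab_part120
    (by omega : 40920 + 341 = 41261)) lab_part121
    (by omega : 41261 + 341 = 41602)) lab_part122
    (by omega : 41602 + 341 = 41943)) lab_part123
    (by omega : 41943 + 341 = 42284)) lab_part124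
    (by omega : 42284 + 341 = 42625)) lab_part125
    (by omega : 42625 + 341 = 42966)) lab_part126
    (by omega : 42966 + 341 = 43307)) lab_part127
    (by omega : 43307 + 341 = 43648)) lab_part128
    (by omega : 43648 + 341 = 43989)) lab_part129
    (by omega : 43989 + 341 = 44330)) lab_part130
    (by omega : 44330 + 341 = 44671)) lab_part131
    (by omega : 44671 + 341 = 45012)) lab_part132
    (by omega : 45012 + 341 = 45353)) lab_part133
    (by omega : 45353 + 341 = 45694)) lab_part134
    (by omega : 45694 + 341 = 46035)) lab_part135
    (by omega : 46035 + 341 = 46376)) lab_part136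
    (by omega : 46376 + 341 = 46717)) lab_part137
    (by omega : 46717 + 341 = 47058)) lab_part138
    (by omega : 47058 + 341 = 47399)) lab_part139
    (by omega : 47399 + 341 = 47740)) lab_part140
    (by omega : 47740 + 341 = 48081)) lab_part141
    (by omega : 48081 + 341 = 48422)) lab_part142
    (by omega : 48422 + 341 = 48763)) lab_part143
    (by omega : 48763 + 341 = 49104)) lab_part144
    (by omega : 49104 + 341 = 49445)) lab_part145
    (by omega : 49445 + 341 = 49786)) lab_part146
    (by omega : 49786 + 341 = 50127)) lab_part147
    (by omega : 50127 + 341 = 50468)) lab_part148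
    (by omega : 50468 + 341 = 50809)) lab_part149
    (by omega : 50809 + 341 = 51150)) lab_part150
    (by omega : 51150 + 341 = 51491)) lab_part151
    (by omega : 51491 + 341 = 51832)) lab_part152
    (by omega : 51832 + 341 = 52173)) lab_part153
    (by omega : 52173 + 341 = 52514)) lab_part154
    (by omega : 52514 + 341 = 52855)) lab_part155
    (by omega : 52855 + 341 = 53196)) lab_part156
    (by omega : 53196 + 341 = 53537)) lab_part157
    (by omega : 53537 + 341 = 53878)) lab_part158
    (by omega : 53878 + 341 = 54219)) lab_part159
    (by omega : 54219 + 341 = 54560)) lab_part160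
    (by omega : 54560 + 341 = 54901)) lab_part161
    (by omega : 54901 + 341 = 55242)) lab_part162
    (by omega : 55242 + 341 = 55583)) lab_part163
    (by omega : 55583 + 341 = 55924)) lab_part164
    (by omega : 55924 + 341 = 56265)) lab_part165
    (by omega : 56265 + 341 = 56606)) lab_part166
    (by omega : 56606 + 341 = 56947)) lab_part167
    (by omega : 56947 + 341 = 57288)) lab_part168
    (by omega : 57288 + 341 = 57629)) lab_part169
    (by omega : 57629 + 341 = 57970)) lab_part170
    (by omega : 57970 + 341 = 58311)) lab_part171
    (by omega : 58311 + 341 = 58652)) lab_part172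
    (by omega : 58652 + 341 = 58993)) lab_part173
    (by omega : 58993 + 341 = 59334)) lab_part174
    (by omega : 59334 + 341 = 59675)) lab_part175
    (by omega : 59675 + 341 = 60016)) lab_part176
    (by omega : 60016 + 341 = 60357)) lab_part177
    (by omega : 60357 + 341 = 60698)) lab_part178
    (by omega : 60698 + 341 = 61039)) lab_part179
    (by omega : 61039 + 341 = 61380)) lab_part180
    (by omega : 61380 + 341 = 61721)) lab_part181
    (by omega : 61721 + 341 = 62062)) lab_part182
    (by omega : 62062 + 341 = 62403)) lab_part183
    (by omega : 62403 + 341 = 62744)) lab_part184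
    (by omega : 62744 + 341 = 63085)) lab_part185
    (by omega : 63085 + 341 = 63426)) lab_part186
    (by omega : 63426 + 341 = 63767)) lab_part187
    (by omega : 63767 + 341 = 64108)) lab_part188
    (by omega : 64108 + 341 = 64449)) lab_part189
    (by omega : 64449 + 341 = 64790)) lab_part190
    (by omega : 64790 + 341 = 65131)) lab_part191
    (by omega : 65131 + 341 = 65472)) lab_part192
    (by omega : 65472 + 341 = 65813)) lab_part193
    (by omega : 65813 + 341 = 66154)) lab_part194
    (by omega : 66154 + 341 = 66495)) lab_part195
    (by omega : 66495 + 341 = 66836)) lab_part196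
    (by omega : 66836 + 341 = 67177)) lab_part197
    (by omega : 67177 + 341 = 67518)) lab_part198
    (by omega : 67518 + 341 = 67859)) lab_part199
    (by omega : 67859 + 341 = 68200)) lab_part200
    (by omega : 68200 + 341 = 68541)) lab_part201
    (by omega : 68541 + 341 = 68882)) lab_part202
    (by omega : 68882 + 341 = 69223)) lab_part203
    (by omega : 69223 + 341 = 69564)) lab_part204
    (by omega : 69564 + 341 = 69905)) lab_part205
    (by omega : 69905 + 341 = 70246)) lab_part206
    (by omega : 70246 + 341 = 70587)) lab_part207
    (by omega : 70587 + 341 = 70928)) lab_part208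
    (by omega : 70928 + 341 = 71269)) lab_part209
    (by omega : 71269 + 341 = 71610)) lab_part210
    (by omega : 71610 + 341 = 71951)) lab_part211
    (by omega : 71951 + 341 = 72292)) lab_part212
    (by omega : 72292 + 341 = 72633)) lab_part213
    (by omega : 72633 + 341 = 72974)) lab_part214
    (by omega : 72974 + 341 = 73315)) lab_part215
    (by omega : 73315 + 341 = 73656)) lab_part216
    (by omega : 73656 + 341 = 73997)) lab_part217
    (by omega : 73997 + 341 = 74338)) lab_part218
    (by omega : 74338 + 341 = 74679)) lab_part219
    (by omega : 74679 + 341 = 75020)) lab_part220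
    (by omega : 75020 + 341 = 75361)) lab_part221
    (by omega : 75361 + 341 = 75702)) lab_part222
    (by omega : 75702 + 341 = 76043)) lab_part223
    (by omega : 76043 + 341 = 76384)) lab_part224
    (by omega : 76384 + 341 = 76725)) lab_part225
    (by omega : 76725 + 341 = 77066)) lab_part226
    (by omega : 77066 + 341 = 77407)) lab_part227
    (by omega : 77407 + 341 = 77748)) lab_part228
    (by omega : 77748 + 341 = 78089)) lab_part229
    (by omega : 78089 + 341 = 78430)) lab_part230
    (by omega : 78430 + 341 = 78771)) lab_part231
    (by omega : 78771 + 341 = 79112)) lab_part232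
    (by omega : 79112 + 341 = 79453)) lab_part233
    (by omega : 79453 + 341 = 79794)) lab_part234
    (by omega : 79794 + 341 = 80135)) lab_part235
    (by omega : 80135 + 341 = 80476)) lab_part236
    (by omega : 80476 + 341 = 80817)) lab_part237
    (by omega : 80817 + 341 = 81158)) lab_part238
    (by omega : 81158 + 341 = 81499)) lab_part239
    (by omega : 81499 + 341 = 81840)) lab_part240
    (by omega : 81840 + 341 = 82181)) lab_part241
    (by omega : 82181 + 341 = 82522)) lab_part242
    (by omega : 82522 + 341 = 82863)) lab_part243
    (by omega : 82863 + 341 = 83204)) lab_part244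
    (by omega : 83204 + 341 = 83545)) lab_part245
    (by omega : 83545 + 341 = 83886)) lab_part246
    (by omega : 83886 + 341 = 84227)) lab_part247
    (by omega : 84227 + 341 = 84568)) lab_part248
    (by omega : 84568 + 341 = 84909)) lab_part249
    (by omega : 84909 + 341 = 85250)) lab_part250
    (by omega : 85250 + 341 = 85591)) lab_part251
    (by omega : 85591 + 341 = 85932)) lab_part252
    (by omega : 85932 + 341 = 86273)) lab_part253
    (by omega : 86273 + 341 = 86614)) lab_part254
    (by omega : 86614 + 341 = 86955)) lab_part255
    (by omega : 86955 + 341 = 87296)) lab_part256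
    (by omega : 87296 + 341 = 87637)) lab_part257
    (by omega : 87637 + 341 = 87978)) lab_part258
    (by omega : 87978 + 341 = 88319)) lab_part259
    (by omega : 88319 + 341 = 88660)) lab_part260
    (by omega : 88660 + 341 = 89001)) lab_part261
    (by omega : 89001 + 341 = 89342)) lab_part262
    (by omega : 89342 + 341 = 89683)) lab_part263
    (by omega : 89683 + 341 = 90024)) lab_part264
    (by omega : 90024 + 341 = 90365)) lab_part265
    (by omega : 90365 + 341 = 90706)) lab_part266
    (by omega : 90706 + 341 = 91047)) lab_part267
    (by omega : 91047 + 341 = 91388)) lab_part268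
    (by omega : 91388 + 341 = 91729)) lab_part269
    (by omega : 91729 + 341 = 92070)) lab_part270
    (by omega : 92070 + 341 = 92411)) lab_part271
    (by omega : 92411 + 341 = 92752)) lab_part272
    (by omega : 92752 + 341 = 93093)) lab_part273
    (by omega : 93093 + 341 = 93434)) lab_part274
    (by omega : 93434 + 341 = 93775)) lab_part275
    (by omega : 93775 + 341 = 94116)) lab_part276
    (by omega : 94116 + 341 = 94457)) lab_part277
    (by omega : 94457 + 341 = 94798)) lab_part278
    (by omega : 94798 + 341 = 95139)) lab_part279
    (by omega : 95139 + 341 = 95480)) lab_part280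
    (by omega : 95480 + 341 = 95821)) lab_part281
    (by omega : 95821 + 341 = 96162)) lab_part282
    (by omega : 96162 + 341 = 96503)) lab_part283
    (by omega : 96503 + 341 = 96844)) lab_part284
    (by omega : 96844 + 341 = 97185)) lab_part285
    (by omega : 97185 + 341 = 97526)) lab_part286
    (by omega : 97526 + 341 = 97867)) lab_part287
    (by omega : 97867 + 341 = 98208)) lab_part288
    (by omega : 98208 + 341 = 98549)) lab_part289
    (by omega : 98549 + 341 = 98890)) lab_part290
    (by omega : 98890 + 341 = 99231)) lab_part291
    (by omega : 99231 + 341 = 99572)) lab_part292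
    (by omega : 99572 + 341 = 99913)) lab_part293
    (by omega : 99913 + 341 = 100254)) lab_part294
    (by omega : 100254 + 341 = 100595)) lab_part295
    (by omega : 100595 + 341 = 100936)) lab_part296
    (by omega : 100936 + 341 = 101277)) lab_part297
    (by omega : 101277 + 341 = 101618)) lab_part298
    (by omega : 101618 + 341 = 101959)) lab_part299
    (by omega : 101959 + 341 = 102300)) lab_part300
    (by omega : 102300 + 341 = 102641)) lab_part301
    (by omega : 102641 + 341 = 102982)) lab_part302
    (by omega : 102982 + 341 = 103323)) lab_part303
    (by omega : 103323 + 341 = 103664)) lab_part304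
    (by omega : 103664 + 341 = 104005)) lab_part305
    (by omega : 104005 + 341 = 104346)) lab_part306
    (by omega : 104346 + 341 = 104687)) lab_part307
    (by omega : 104687 + 341 = 105028)) lab_part308
    (by omega : 105028 + 341 = 105369)) lab_part309
    (by omega : 105369 + 341 = 105710)) lab_part310
    (by omega : 105710 + 341 = 106051)) lab_part311
    (by omega : 106051 + 341 = 106392)) lab_part312
    (by omega : 106392 + 341 = 106733)) lab_part313
    (by omega : 106733 + 341 = 107074)) lab_part314
    (by omega : 107074 + 341 = 107415)) lab_part315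
    (by omega : 107415 + 341 = 107756)) lab_part316
    (by omega : 107756 + 341 = 108097)) lab_part317
    (by omega : 108097 + 341 = 108438)) lab_part318
    (by omega : 108438 + 341 = 108779)) lab_part319
    (by omega : 108779 + 341 = 109120)) lab_part320
    (by omega : 109120 + 341 = 109461)) lab_part321
    (by omega : 109461 + 341 = 109802)) lab_part322
    (by omega : 109802 + 341 = 110143)) lab_part323
    (by omega : 110143 + 341 = 110484)) lab_part324
    (by omega : 110484 + 341 = 110825)) lab_part325
    (by omega : 110825 + 341 = 111166)) lab_part326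
    (by omega : 111166 + 341 = 111507)) lab_part327
    (by omega : 111507 + 341 = 111848)) lab_part328
    (by omega : 111848 + 341 = 112189)) lab_part329
    (by omega : 112189 + 341 = 112530)) lab_part330
    (by omega : 112530 + 341 = 112871)) lab_part331
    (by omega : 112871 + 341 = 113212)) lab_part332
    (by omega : 113212 + 341 = 113553)) lab_part333
    (by omega : 113553 + 341 = 113894)) lab_part334
    (by omega : 113894 + 341 = 114235)) lab_part335
    (by omega : 114235 + 341 = 114576)) lab_part336
    (by omega : 114576 + 341 = 114917)) lab_part337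
    (by omega : 114917 + 341 = 115258)) lab_part338
    (by omega : 115258 + 341 = 115599)) lab_part339
    (by omega : 115599 + 341 = 115940)) lab_part340
    (by omega : 115940 + 341 = 116281)) lab_part341
    (by omega : 116281 + 341 = 116622)) lab_part342
    (by omega : 116622 + 341 = 116963)) lab_part343
    (by omega : 116963 + 341 = 117304)) lab_part344
    (by omega : 117304 + 341 = 117645)) lab_part345
    (by omega : 117645 + 341 = 117986)) lab_part346
    (by omega : 117986 + 341 = 118327)) lab_part347
    (by omega : 118327 + 341 = 118668)) lab_part348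
    (by omega : 118668 + 341 = 119009)) lab_part349
    (by omega : 119009 + 341 = 119350)) lab_part350
    (by omega : 119350 + 341 = 119691)) lab_part351
    (by omega : 119691 + 341 = 120032)) lab_part352
    (by omega : 120032 + 341 = 120373)) lab_part353
    (by omega : 120373 + 341 = 120714)) lab_part354
    (by omega : 120714 + 341 = 121055)) lab_part355
    (by omega : 121055 + 341 = 121396)) lab_part356
    (by omega : 121396 + 341 = 121737)) lab_part357
    (by omega : 121737 + 341 = 122078)) lab_part358
    (by omega : 122078 + 341 = 122419)) lab_part359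
    (by omega : 122419 + 341 = 122760))

end Cfsg.Agent.Lib.ON3Mult
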