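import Cfsg.Agent.Lib.ON3Mult.Base
import Cfsg.Agent.Lib.ON3Mult.LabCheck
import Cfsg.Prelude.Def_KGroupFacts

/-!
# The triple cover of the O'Nan group

The letters act on pairs (point, residue modulo three) by the table and the labels.  Every relator
acts as a translation of the residue, so the group they generate is a central extension of the
presented group by a group of order three, and it is perfect.
-/

set_option autoImplicit false
set_option maxRecDepth 20000
set_option Elab.async false

namespace Cfsg.Agent.Lib.ON3Mult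

open Cfsg.Agent.Lib.CosetEnum
open scoped commutatorElement

/-- The points of the cover. -/
abbrev X : Type := Fin 122760 × ZMod 3

/-- The sum of labels along a word. -/
noncomputable def labSum (l : List ℕ) (i : ℕ) : ℕ := scanLab l i 0

theorem scanLab_eq : ∀ (l : List ℕ) (i s : ℕ), scanLab l i s = s + scanLab l i 0
  | [], i, s => by simp [scanLab]
  | g :: l, i, s => by
    have h : ∀ s, scanLab (g :: l) i s =
        scanLab l (get32 ON122760.table (i * 8 + g)) (s + lab (i * 8 + g)) := fun s => by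
      show force (Nat.add (Nat.mul i 8) g) (fun e => force (Nat.add s (lab e)) fun s' =>
        force (get32 ON122760.table e) fun j => scanLab l j s') = _
      repeat rw [force_eq]
      rfl
    rw [h, h, scanLab_eq l _ (s + _), scanLab_eq l _ (0 + _)]
    omega

theorem labSum_cons (g : ℕ) (l : List ℕ) (i : ℕ) :
    labSum (g :: l) i = lab (i * 8 + g) + labSum l (get32 ON122760.table (i * 8 + g)) := by
  show force (Nat.add (Nat.mul i 8) g) (fun e => force (Nat.add 0 (lab e)) fun s' =>
    force (get32 ON122760.table e) fun j => scanLab l j s') = _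
  repeat rw [force_eq]
  rw [scanLab_eq, Nat.add_eq, Nat.zero_add]
  rfl

theorem labSum_ok {l : List ℕ} {e : ℕ} (h : (l, e) ∈ labWords) {i : ℕ} (hi : i < 122760) :
    ((labSum l i : ℕ) : ZMod 3) = (e : ZMod 3) := by
  have hi' := allBelow_iff.1 lab_ok i hi
  unfold labAt at hi'
  clear hi
  generalize labWords = W at h hi'
  induction W with
  | nil => simp at h
  | cons p ps ih =>
    simp only [Bool.and_eq_true, Nat.beq_eq] at hi'
    rcases List.mem_cons.1 h with h | h
    · subst h
      have he : labSum l i % 3 = e := hi'.1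
      rw [← he]
      exact (ZMod.natCast_mod _ 3).symm
    · exact ih h hi'.2

namespace Act

variable (a : Act)

/-- A letter of the cover, as a right action. -/
noncomputable def step₃ (g : ℕ) : Equiv.Perm X where
  toFun p := ((a.ρ (letterEl g))⁻¹ p.1, p.2 + (lab (p.1.1 * 8 + g) : ZMod 3))
  invFun p := (a.ρ (letterEl g) p.1, p.2 - (lab ((a.ρ (letterEl g) p.1).1 * 8 + g) : ZMod 3))
  left_inv p := Prod.ext (by simp) (by simp)
  right_inv p := Prod.ext (by simp) (by simp)

/-- A letter of the cover. -/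
noncomputable def mon (g : ℕ) : Equiv.Perm X := (a.step₃ g)⁻¹

/-- The lift of the free group. -/
noncomputable def ψ : FreeGroup Cfsg.Spor.ON.Gen →* Equiv.Perm X :=
  FreeGroup.lift fun x => a.mon (ON122760.letters.col x)

theorem prod_mon (l : List ℕ) (hl : ∀ g ∈ l, g < 8) (p : X) :
    ((l.map a.mon).prod)⁻¹ p =
      ((a.ρ (el l))⁻¹ p.1, p.2 + (labSum l p.1.1 : ZMod 3)) := by
  induction l generalizing p with
  | nil => simp [el_nil, labSum, scanLab]
  | cons g l ih =>
    rw [List.map_cons, List.prod_cons, mul_inv_rev, Equiv.Perm.mul_apply,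
      show (a.mon g)⁻¹ p = a.step₃ g p by rw [mon, inv_inv],
      ih (fun x hx => hl x (List.mem_cons_of_mem _ hx))]
    refine Prod.ext ?_ ?_
    · show (a.ρ (el l))⁻¹ ((a.ρ (letterEl g))⁻¹ p.1) = _
      rw [show el (g :: l) = letterEl g * el l from rfl, map_mul, mul_inv_rev, Equiv.Perm.mul_apply]
    · show p.2 + _ + _ = _
      show p.2 + _ + (labSum l ((a.ρ (letterEl g))⁻¹ p.1).1 : ZMod 3) = p.2 + _
      rw [a.step g (hl g List.mem_cons_self), labSum_cons, Nat.cast_add, add_assoc]

/-- Translation of the residue. -/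
def shift : Multiplicative (ZMod 3) →* Equiv.Perm X where
  toFun t :=
    { toFun := fun p => (p.1, p.2 + t.toAdd)
      invFun := fun p => (p.1, p.2 - t.toAdd)
      left_inv := fun p => Prod.ext rfl (by simp)
      right_inv := fun p => Prod.ext rfl (by simp) }
  map_one' := Equiv.ext fun p => Prod.ext rfl (add_zero p.2)
  map_mul' s t := Equiv.ext fun p => Prod.ext rfl (by
    show p.2 + (s.toAdd + t.toAdd) = p.2 + t.toAdd + s.toAdd
    rw [add_comm s.toAdd, add_assoc])

theorem shift_injective : Function.Injective shift := fun s t h => by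
  have := congrArg (fun σ : Equiv.Perm X => (σ (⟨0, by omega⟩, 0)).2) h
  simpa [shift] using this

theorem shift_comm_step (t : Multiplicative (ZMod 3)) (g : ℕ) : Commute (shift t) (a.step₃ g) :=
  Equiv.ext fun p => Prod.ext rfl (by
    show p.2 + (lab (p.1.1 * 8 + g) : ZMod 3) + t.toAdd = p.2 + t.toAdd + (lab (p.1.1 * 8 + g) : ZMod 3)
    rw [add_right_comm])

theorem shift_comm (t : Multiplicative (ZMod 3)) (w : FreeGroup Cfsg.Spor.ON.Gen) :
    Commute (shift t) (a.ψ w) := by
  induction w using FreeGroup.induction_on with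
  | C1 => rw [map_one]; exact Commute.one_right _
  | of x => rw [ψ, FreeGroup.lift_apply_of]; exact (a.shift_comm_step t _).inv_right
  | inv_of x h => rw [map_inv]; exact h.inv_right
  | mul u v hu hv => rw [map_mul]; exact hu.mul_right hv

theorem inv_letter : ∀ g < 8, invL ON122760.letters.IV g < 8 ∧
    ([g, invL ON122760.letters.IV g], 0) ∈ labWords := by decide +kernel

theorem mon_inv {g : ℕ} (hg : g < 8) : a.mon (invL ON122760.letters.IV g) = (a.mon g)⁻¹ := by
  obtain ⟨h1, h2⟩ := inv_letter g hg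
  refine (eq_inv_of_mul_eq_one_right ?_)
  rw [← inv_eq_one]
  refine Equiv.ext fun p => ?_
  have h := a.prod_mon [g, invL ON122760.letters.IV g] (by simp [hg, h1]) p
  simp only [List.map_cons, List.map_nil, List.prod_cons, List.prod_nil, mul_one] at h
  rw [h]
  have hel : el [g, invL ON122760.letters.IV g] = 1 := by
    have h' := (Letters.phi_inv (S := ON122760.pres) ON122760.rels_mem ON122760.letters_ok
      (g := g) (show g ≤ ON122760.letters.K from Nat.le_of_lt hg)).2
    simp [el, h']
  refine Prod.ext ?_ ?_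
  · simp [hel]
  · show p.2 + _ = p.2
    rw [labSum_ok h2 p.1.2, Nat.cast_zero, add_zero]

theorem sym_col : ∀ g < 8, (if (ON122760.letters.sym g).2 then ON122760.letters.col (ON122760.letters.sym g).1
    else invL ON122760.letters.IV (ON122760.letters.col (ON122760.letters.sym g).1)) = g := by
  decide +kernel

theorem col_lt : ∀ x, ON122760.letters.col x < 8 := fun x => (ON122760.table_ok.col x).1

theorem ψ_sym {g : ℕ} (hg : g < 8) : a.ψ (FreeGroup.mk [ON122760.letters.sym g]) = a.mon g := by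
  have h := sym_col g hg
  generalize ON122760.letters.sym g = s at h
  obtain ⟨x, b⟩ := s
  cases b
  · simp only [Bool.false_eq_true, if_false] at h
    rw [← h, a.mon_inv (col_lt x),
      show FreeGroup.mk [(x, false)] = (FreeGroup.of x)⁻¹ from rfl, map_inv, ψ, FreeGroup.lift_apply_of]
  · simp only [if_true] at h
    rw [← h, show FreeGroup.mk [(x, true)] = FreeGroup.of x from rfl, ψ, FreeGroup.lift_apply_of]

theorem ψ_word (l : List ℕ) (hl : ∀ g ∈ l, g < 8) :
    a.ψ (ON122760.letters.word l) = (l.map a.mon).prod := by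
  induction l with
  | nil => simp [Letters.word, ← FreeGroup.one_eq_mk]
  | cons g l ih =>
    rw [List.map_cons, List.prod_cons, ← ih fun x hx => hl x (List.mem_cons_of_mem _ hx),
      ← a.ψ_sym (hl g List.mem_cons_self), ← map_mul]
    simp [Letters.word]

/-- A word with labelled value `e` is a translation. -/
theorem ψ_word_eq_shift {l : List ℕ} {e : ℕ} (h : (l, e) ∈ labWords) (hl : ∀ g ∈ l, g < 8)
    (h1 : el l = 1) :
    a.ψ (ON122760.letters.word l) = (shift (Multiplicative.ofAdd (e : ZMod 3)))⁻¹ := by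
  rw [a.ψ_word l hl, eq_inv_iff_mul_eq_one, mul_eq_one_iff_inv_eq]
  refine Equiv.ext fun p => ?_
  rw [a.prod_mon l hl p, h1]
  refine Prod.ext ?_ ?_
  · simp [shift]
  · show p.2 + _ = p.2 + _
    rw [labSum_ok h p.1.2]
    rfl

theorem words_RL : ∀ l ∈ ON122760.letters.RL, ((l, 0) ∈ labWords ∨ (l, 1) ∈ labWords) := by
  decide +kernel

/-- Relators act as translations. -/
theorem ψ_mem_shift : ∀ r ∈ ON122760.pres, a.ψ r ∈ (shift).range := by
  let K : Subgroup (FreeGroup Cfsg.Spor.ON.Gen) := (shift).range.comap a.ψ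
  have hK : K.Normal := ⟨fun w hw u => by
    obtain ⟨t, ht⟩ := hw
    refine ⟨t, ?_⟩
    rw [map_mul, map_mul, map_inv, ← ht, ← (a.shift_comm t u).eq, mul_inv_cancel_right]⟩
  suffices h : ∀ r ∈ ON122760.pres, QuotientGroup.mk' K r = 1 from
    fun r hr => (QuotientGroup.eq_one_iff r).1 (h r hr)
  refine lift_rels_of_list (edges := Cfsg.Spor.ON.edges)
    (nodes := [Cfsg.Spor.ON.Gen.a, Cfsg.Spor.ON.Gen.b, Cfsg.Spor.ON.Gen.c, Cfsg.Spor.ON.Gen.d,
      Cfsg.Spor.ON.Gen.e, Cfsg.Spor.ON.Gen.f]) (by decide +kernel) _ ?_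
  intro r hr
  refine (QuotientGroup.eq_one_iff r).2 ?_
  show a.ψ r ∈ (shift).range
  obtain ⟨l, hl, hlr⟩ := ON122760.letters_ok.2.2.2.2 r hr
  have hlt : ∀ g ∈ l, g < 8 := (ON122760.letters_ok.2.2.2.1 l hl).1
  have h1 : el l = 1 :=
    Letters.prod_rel ON122760.rels_mem ON122760.letters_ok ON122760.table_ok.col hl
  have hw := (Letters.word_lettersOf a.ψ ON122760.table_ok.col
    (fun g hg => ⟨(inv_letter g hg).1, by
      rw [a.ψ_sym (inv_letter g hg).1, a.ψ_sym hg, a.mon_inv hg]⟩) r).1
  rw [hlr] at hw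
  rw [← hw]
  rcases words_RL l hl with h | h
  · exact ⟨_, (map_inv shift _).trans (a.ψ_word_eq_shift h hlt h1).symm⟩
  · exact ⟨_, (map_inv shift _).trans (a.ψ_word_eq_shift h hlt h1).symm⟩

/-- The cover. -/
noncomputable abbrev Γ : Subgroup (Equiv.Perm X) := a.ψ.range

theorem base_ψ (w : FreeGroup Cfsg.Spor.ON.Gen) (p : X) :
    (a.ψ w p).1 = a.ρ (PresentedGroup.mk ON122760.pres w) p.1 := by
  induction w using FreeGroup.induction_on generalizing p with
  | C1 => simp
  | of x =>
    have hx := ON122760.table_ok.col x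
    have : PresentedGroup.mk ON122760.pres (FreeGroup.of x) = letterEl (ON122760.letters.col x) := by
      rw [letterEl, Letters.phi_of_lt hx.1, hx.2]; rfl
    rw [this, ψ, FreeGroup.lift_apply_of]
    rfl
  | inv_of x h =>
    rw [map_inv, map_inv, map_inv]
    have h' := h ((a.ψ (FreeGroup.of x))⁻¹ p)
    rw [Equiv.Perm.inv_def, Equiv.apply_symm_apply] at h'
    rw [h']
    simp
  | mul u v hu hv => rw [map_mul, map_mul, map_mul, Equiv.Perm.mul_apply, Equiv.Perm.mul_apply, hu, hv]

/-- The map onto the presented group, by choice of a word. -/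
noncomputable def pre (x : a.Γ) : G := PresentedGroup.mk ON122760.pres x.2.choose

theorem pre_eq {x : a.Γ} {w : FreeGroup Cfsg.Spor.ON.Gen} (h : a.ψ w = x.1) :
    a.pre x = PresentedGroup.mk ON122760.pres w := by
  refine a.inj (Equiv.ext fun i => ?_)
  rw [pre, ← a.base_ψ _ (i, 0), ← a.base_ψ _ (i, 0), x.2.choose_spec, h]

/-- The map onto the presented group. -/
noncomputable def σ : a.Γ →* G where
  toFun := a.pre
  map_one' := by rw [a.pre_eq (w := 1) (map_one _), map_one]
  map_mul' x y := by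
    rw [a.pre_eq (x := x * y) (w := x.2.choose * y.2.choose) (by
      rw [map_mul, x.2.choose_spec, y.2.choose_spec]; rfl), map_mul]
    rfl

theorem σ_ψ (w : FreeGroup Cfsg.Spor.ON.Gen) :
    a.σ ⟨a.ψ w, w, rfl⟩ = PresentedGroup.mk ON122760.pres w := a.pre_eq rfl

theorem shift_mem (t : Multiplicative (ZMod 3)) : shift t ∈ a.Γ := by
  have hl : ([0, 3, 4, 0, 4, 3, 0, 3, 4, 0, 4], 1) ∈ labWords ∧
      [0, 3, 4, 0, 4, 3, 0, 3, 4, 0, 4] ∈ ON122760.letters.RL := by decide +kernel
  have h := a.ψ_word_eq_shift hl.1 (by decide)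
    (Letters.prod_rel ON122760.rels_mem ON122760.letters_ok ON122760.table_ok.col hl.2)
  have hone : shift (Multiplicative.ofAdd (1 : ZMod 3)) ∈ a.Γ := by
    refine inv_mem_iff.1 ⟨_, h.trans ?_⟩
    rw [Nat.cast_one]
  have ht : t = Multiplicative.ofAdd (1 : ZMod 3) ^ (t.toAdd.val) := by
    rw [← ofAdd_nsmul, nsmul_eq_mul, mul_one, ZMod.natCast_zmod_val]
    rfl
  rw [ht, map_pow]
  exact pow_mem hone _

/-- The translations inside the cover. -/
noncomputable def zhom : Multiplicative (ZMod 3) →* a.Γ := (shift).codRestrict _ a.shift_mem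

theorem mem_ker_iff (x : a.Γ) : x ∈ a.σ.ker ↔ x ∈ a.zhom.range := by
  obtain ⟨x, w, rfl⟩ := x
  constructor
  · intro hx
    rw [MonoidHom.mem_ker, a.σ_ψ] at hx
    have hw : w ∈ Subgroup.normalClosure ON122760.pres := (QuotientGroup.eq_one_iff w).1 hx
    let K : Subgroup (FreeGroup Cfsg.Spor.ON.Gen) := (shift).range.comap a.ψ
    have hK : K.Normal := ⟨fun w hw u => by
      obtain ⟨t, ht⟩ := hw
      refine ⟨t, ?_⟩
      rw [map_mul, map_mul, map_inv, ← ht, ← (a.shift_comm t u).eq, mul_inv_cancel_right]⟩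
    obtain ⟨t, ht⟩ := Subgroup.normalClosure_le_normal (N := K) a.ψ_mem_shift hw
    exact ⟨t, Subtype.ext ht⟩
  · rintro ⟨t, ht⟩
    rw [MonoidHom.mem_ker, a.σ_ψ]
    refine a.inj (Equiv.ext fun i => ?_)
    rw [← a.base_ψ w (i, 0), map_one, show a.ψ w = shift t from (congrArg Subtype.val ht).symm]
    rfl

theorem ker_le_center : a.σ.ker ≤ Subgroup.center a.Γ := by
  intro x hx
  obtain ⟨t, rfl⟩ := (a.mem_ker_iff x).1 hx
  refine Subgroup.mem_center_iff.2 fun y => ?_
  obtain ⟨y, w, rfl⟩ := y
  exact Subtype.ext (a.shift_comm t w).eq.symm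

/-- The cover is perfect on the kernel: a homomorphism to an abelian group kills the translations. -/
theorem shift_mem_commutator (t : Multiplicative (ZMod 3)) : a.zhom t ∈ commutator a.Γ := by
  refine Abelianization.ker_of a.Γ ▸ MonoidHom.mem_ker.2 ?_
  set Φ : FreeGroup Cfsg.Spor.ON.Gen →* Abelianization a.Γ :=
    Abelianization.of.comp a.ψ.rangeRestrict with hΦ
  have val : ∀ {l : List ℕ} {e : ℕ}, (l, e) ∈ labWords → (∀ g ∈ l, g < 8) → el l = 1 →
      Φ (ON122760.letters.word l) =
        (Abelianization.of (a.zhom (Multiplicative.ofAdd (e : ZMod 3))))⁻¹ := fun h hl h1 => by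
    rw [hΦ, MonoidHom.comp_apply, ← map_inv]
    exact congrArg _ (Subtype.ext (a.ψ_word_eq_shift h hl h1))
  set z := Abelianization.of (a.zhom (Multiplicative.ofAdd ((1 : ℕ) : ZMod 3))) with hz
  have h0 : Abelianization.of (a.zhom (Multiplicative.ofAdd ((0 : ℕ) : ZMod 3))) = 1 := by
    rw [Nat.cast_zero, ofAdd_zero, map_one, map_one]
  have rel : ∀ l ∈ ON122760.letters.RL, ∀ e, (l, e) ∈ labWords → (∀ g ∈ l, g < 8) →
      Φ (ON122760.letters.word l) =
        (Abelianization.of (a.zhom (Multiplicative.ofAdd (e : ZMod 3))))⁻¹ := fun l hl e he hlt =>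
    val he hlt (Letters.prod_rel ON122760.rels_mem ON122760.letters_ok ON122760.table_ok.col hl)
  have hr := rel [0, 3, 4, 0, 4, 3, 0, 3, 4, 0, 4] (by decide +kernel) 1 (by decide +kernel) (by decide)
  have hb := rel [3, 3] (by decide +kernel) 0 (by decide +kernel) (by decide)
  have hc := rel [4, 4] (by decide +kernel) 0 (by decide +kernel) (by decide)
  have hg := val (l := [0, 0, 0, 0]) (e := 0) (by decide +kernel) (by decide)
    (by rw [← el_nil]; exact el_eq_of_key (by decide +kernel) (by decide +kernel) (by decide +kernel))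
  rw [h0, inv_one] at hb hc hg
  rw [← hz] at hr
  have hword : ∀ l : List ℕ, Φ (ON122760.letters.word l) =
      (l.map fun g => Φ (FreeGroup.mk [ON122760.letters.sym g])).prod := by
    intro l
    induction l with
    | nil => simp [Letters.word, ← FreeGroup.one_eq_mk]
    | cons g l ih =>
      rw [List.map_cons, List.prod_cons, ← ih, ← map_mul]
      simp [Letters.word]
  rw [hword] at hr hb hc hg
  simp only [List.map_cons, List.map_nil, List.prod_cons, List.prod_nil, mul_one] at hr hb hc hg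
  generalize Φ (FreeGroup.mk [ON122760.letters.sym 0]) = u at hr hg
  generalize Φ (FreeGroup.mk [ON122760.letters.sym 3]) = v at hr hb
  generalize Φ (FreeGroup.mk [ON122760.letters.sym 4]) = w at hr hc
  have h3 : z ^ 3 = 1 := by
    rw [hz, ← map_pow, ← map_pow, ← ofAdd_nsmul]
    rw [show (3 : ℕ) • ((1 : ℕ) : ZMod 3) = 0 by decide, ofAdd_zero, map_one, map_one]
  have h2 : z⁻¹ ^ 2 = 1 := by
    rw [← hr]
    calc _ = (u * (u * (u * u))) ^ 2 * (v * v) ^ 3 * (w * w) ^ 4 := by
          simp only [pow_succ, pow_zero, one_mul]; ac_rfl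
      _ = 1 := by rw [hg, hb, hc]; simp
  have hz1 : z = 1 := by
    rw [inv_pow, inv_eq_one] at h2
    rw [pow_succ, h2, one_mul] at h3
    exact h3
  have ht : t = Multiplicative.ofAdd ((1 : ℕ) : ZMod 3) ^ (t.toAdd.val) := by
    rw [← ofAdd_nsmul, nsmul_eq_mul, Nat.cast_one, mul_one, ZMod.natCast_zmod_val]
    rfl
  rw [ht, map_pow, map_pow, ← hz, hz1, one_pow]

instance : Finite a.Γ := inferInstance

theorem stem : Cfsg.IsStemExtension a.σ := by
  refine ⟨fun x => ?_, a.ker_le_center, fun x hx => ?_⟩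
  · obtain ⟨w, rfl⟩ := QuotientGroup.mk'_surjective _ x
    exact ⟨⟨a.ψ w, w, rfl⟩, a.σ_ψ w⟩
  · obtain ⟨t, rfl⟩ := (a.mem_ker_iff x).1 hx
    exact a.shift_mem_commutator t

/-- The kernel has order three. -/
noncomputable def kerEquiv : a.σ.ker ≃* Multiplicative (ZMod 3) :=
  ((MulEquiv.ofBijective (a.zhom.codRestrict a.σ.ker fun t => (a.mem_ker_iff _).2 ⟨t, rfl⟩)
    ⟨fun s t h => shift_injective (congrArg (fun y : a.σ.ker => (y.1 : Equiv.Perm X)) h),
      fun y => by
        obtain ⟨t, ht⟩ := (a.mem_ker_iff y.1).1 y.2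
        exact ⟨t, Subtype.ext ht⟩⟩)).symm

end Act

/-- There is a triple cover. -/
theorem exists_cover : ∃ (Δ : Type) (_ : Group Δ) (_ : Finite Δ) (τ : Δ →* G),
    Cfsg.IsStemExtension τ ∧ Nonempty (τ.ker ≃* Multiplicative (ZMod 3)) := by
  obtain ⟨a⟩ := exists_act
  exact ⟨a.Γ, inferInstance, inferInstance, a.σ, a.stem, ⟨a.kerEquiv⟩⟩

end Cfsg.Agent.Lib.ON3Mult
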