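import Cfsg.Agent.Lib.ON3Mult.Labels

/-! The labels at the points 0 to 5114. -/

set_option autoImplicit false
set_option maxRecDepth 20000
set_option Elab.async false

namespace Cfsg.Agent.Lib.ON3Mult

open Cfsg.Agent.Lib.CosetEnum

theorem lab_part0 : allFrom 0 341 labAt = true := by decide +kernel

theorem lab_part1 : allFrom 341 341 labAt = true := by decide +kernel

theorem lab_part2 : allFrom 682 341 labAt = true := by decide +kernel

theorem lab_part3 : allFrom 1023 341 labAt = true := by decide +kernel

theorem lab_part4 : allFrom 1364 341 labAt = true := by decide +kernel

theorem lab_part5 : allFrom 1705 341 labAt = true := by decide +kernel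

theorem lab_part6 : allFrom 2046 341 labAt = true := by decide +kernel

theorem lab_part7 : allFrom 2387 341 labAt = true := by decide +kernel

theorem lab_part8 : allFrom 2728 341 labAt = true := by decide +kernel

theorem lab_part9 : allFrom 3069 341 labAt = true := by decide +kernel

theorem lab_part10 : allFrom 3410 341 labAt = true := by decide +kernel

theorem lab_part11 : allFrom 3751 341 labAt = true := by decide +kernel

theorem lab_part12 : allFrom 4092 341 labAt = true := by decide +kernel

theorem lab_part13 : allFrom 4433 341 labAt = true := by decide +kernel

theorem lab_part14 : allFrom 4774 341 labAt = true := by decide +kernel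

end Cfsg.Agent.Lib.ON3Mult
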