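import Cfsg.Agent.Lib.ON3Mult.Labels

/-! The labels at the points 71610 to 76724. -/

set_option autoImplicit false
set_option maxRecDepth 20000
set_option Elab.async false

namespace Cfsg.Agent.Lib.ON3Mult

open Cfsg.Agent.Lib.CosetEnum

theorem lab_part210 : allFrom 71610 341 labAt = true := by decide +kernel

theorem lab_part211 : allFrom 71951 341 labAt = true := by decide +kernel

theorem lab_part212 : allFrom 72292 341 labAt = true := by decide +kernel

theorem lab_part213 : allFrom 72633 341 labAt = true := by decide +kernel

theorem lab_part214 : allFrom 72974 341 labAt = true := by decide +kernel

theorem lab_part215 : allFrom 73315 341 labAt = true := by decide +kernel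

theorem lab_part216 : allFrom 73656 341 labAt = true := by decide +kernel

theorem lab_part217 : allFrom 73997 341 labAt = true := by decide +kernel

theorem lab_part218 : allFrom 74338 341 labAt = true := by decide +kernel

theorem lab_part219 : allFrom 74679 341 labAt = true := by decide +kernel

theorem lab_part220 : allFrom 75020 341 labAt = true := by decide +kernel

theorem lab_part221 : allFrom 75361 341 labAt = true := by decide +kernel

theorem lab_part222 : allFrom 75702 341 labAt = true := by decide +kernel

theorem lab_part223 : allFrom 76043 341 labAt = true := by decide +kernel

theorem lab_part224 : allFrom 76384 341 labAt = true := by decide +kernel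

end Cfsg.Agent.Lib.ON3Mult
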