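import Mathlib

/-!
Sylow subgroups of the O'Nan group for odd primes, as words (generated data).
-/

set_option autoImplicit false
set_option maxRecDepth 20000

namespace Cfsg.Agent.Lib.ON3Mult

/-- A basis of an elementary abelian subgroup of order 81. -/
def threeGens : List (List ℕ) := [[2, 3], [7, 0, 3, 0], [3, 5, 6, 7, 6, 5, 0, 3, 5, 1, 6], [2, 3, 2, 6, 7, 0, 3, 2, 6, 5, 0, 6]]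

/-- Its elements by words in the basis, sorted by key. -/
def threeElems : List (List ℕ) := [[0, 3, 3], [1, 3, 3], [1, 1, 3, 3], [0, 1, 1, 3, 3], [1], [0, 0, 1, 1], [0, 0], [], [1, 2], [1, 2, 2, 3, 3], [0, 1, 3, 3], [0, 0, 3, 3], [0, 0, 1, 1, 3, 3], [0, 0, 2, 2, 3, 3], [1, 1], [0, 1], [0, 1, 2], [0, 0, 1, 2, 2, 3, 3], [3, 3], [1, 1, 2, 2, 3, 3], [0], [0, 1, 1, 2], [0, 0, 1, 2], [0, 0, 1, 3, 3], [0, 1, 1, 2, 2, 3, 3], [2], [0, 0, 1], [0, 1, 1], [1, 1, 2], [2, 2, 3, 3], [0, 1, 2, 2, 3, 3], [0, 2], [0, 1, 1, 2, 2], [0, 0, 1, 1, 2, 2], [0, 0, 2, 3, 3], [1, 1, 2, 3], [0, 2, 2, 3, 3], [0, 0, 1, 1, 2, 2, 3, 3], [0, 0, 1, 1, 2], [0, 0, 1, 2, 3, 3], [0, 0, 2], [0, 1, 1, 2, 3, 3], [0, 2, 3, 3], [0, 0, 1, 1, 2, 3], [0, 0, 2, 2], [0, 1, 2, 2], [0, 0, 1, 2, 3], [1,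 1, 2, 2], [0, 0, 1, 3], [2, 2, 3], [0, 0, 2, 2, 3], [0, 1, 3], [2, 3], [0, 0, 1, 1, 2, 3, 3], [0, 3], [0, 0, 1, 1, 3], [0, 1, 2, 3, 3], [1, 2, 3, 3], [0, 2, 2], [0, 0, 1, 2, 2], [1, 2, 3], [0, 2, 2, 3], [2, 3, 3], [0, 1, 1, 2, 3], [2, 2], [0, 1, 2, 2, 3], [0, 2, 3], [1, 3], [0, 0, 2, 3], [1, 1, 2, 2, 3], [0, 1, 2, 3], [0, 1, 1, 3], [0, 0, 3], [1, 1, 3], [1, 1, 2, 3, 3], [1, 2, 2], [3], [1, 2, 2, 3], [0, 1, 1, 2, 2, 3], [0, 0, 1, 2, 2, 3], [0, 0, 1, 1, 2, 2, 3]]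

/-- Products with the basis. -/
def threeNext : List (List ℕ) := [[11, 10, 42, 20], [10, 2, 57, 4], [3, 18, 74, 14], [12, 0, 41, 27], [15, 14, 8, 67], [14, 6, 38, 55], [7, 26, 40, 72], [20, 4, 25, 76], [16, 28, 75, 60], [30, 19, 1, 75], [23, 3, 56, 15], [18, 23, 34, 6], [2, 11, 53, 5], [29, 17, 11, 44], [27, 7, 28, 73], [26, 27, 16, 51], [22, 21, 45, 70], [9, 37, 23, 59], [0, 1, 62, 7], [24, 29, 2, 47], [6, 15, 31, 54], [38, 31, 32, 63], [8, 38, 59, 46], [1, 12, 39, 26], [37, 36, 3, 32], [31, 8, 64, 52], [4, 5, 22, 48], [5, 20, 21, 71], [21, 25, 47, 35], [36, 9, 18, 64], [17, 24, 10, 45], [40, 16, 58, 66], [33, 58, 27, 78], [47, 44, 5, 80], [62, 39, 13, 40], [63, 52, 69, 74], [13, 30, 0, 58], [19, 13, 12, 33], [28, 40, 33, 43], [57, 53, 17, 22], [25, 22,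 44, 68], [53, 42, 24, 21], [34, 56, 36, 31], [35, 68, 80, 53], [64, 59, 6, 50], [59, 32, 15, 65], [60, 43, 79, 39], [32, 64, 14, 69], [67, 55, 46, 23], [61, 77, 76, 29], [49, 79, 72, 13], [48, 71, 70, 10], [66, 60, 49, 62], [74, 34, 37, 38], [72, 51, 66, 0], [73, 72, 43, 12], [39, 41, 30, 16], [56, 74, 9, 8], [44, 45, 20, 61], [75, 33, 26, 79], [70, 35, 77, 57], [50, 65, 54, 36], [42, 57, 29, 25], [43, 66, 78, 41], [58, 75, 7, 49], [79, 78, 51, 30], [68, 70, 61, 42], [51, 73, 60, 1], [52, 46, 50, 34], [78, 49, 73, 19], [46, 63, 65, 56], [55, 54, 63, 3], [76, 48, 68, 11], [71, 76, 35, 2], [41, 62, 19, 28], [45, 47, 4, 77], [54, 67, 52, 18], [65, 69, 67, 9], [80, 61, 71, 24], [77, 80, 48, 17], [69, 50, 55, 37]]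

/-- Two normalising words. -/
def threeNorm : List (List ℕ) := [[2, 3, 4, 5, 4, 3, 6, 5, 4, 3, 5, 7, 6, 5, 4, 3, 5, 4, 3, 5, 6, 5, 4, 3, 5, 4, 3, 6, 5, 4, 3, 5, 0, 6, 5, 4, 3, 5, 6, 1, 4, 3, 5, 6, 0, 4, 5], [2, 3, 2, 4, 3, 5, 4, 5, 4, 3, 6, 5, 4, 3, 7, 6, 5, 4, 3, 5, 4, 6, 5, 4, 3, 5, 4, 6, 0, 3, 2, 4, 5, 4, 3, 6, 0, 5, 4, 1, 3, 2]]

/-- Their matrices. -/
def threeMat : List (List (List ℕ)) := [[[1, 1, 1, 2], [1, 2, 1, 1], [2, 1, 0, 2], [2, 0, 2, 1]], [[0, 2, 0, 1], [1, 0, 1, 0], [0, 2, 1, 1], [1, 0, 1, 1]]]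

/-- Generators of a group of order 343. -/
def sevenGens : List (List ℕ) := [[6, 7, 6, 5, 4, 3, 5, 4, 6, 7], [5, 6, 5, 4, 3, 5, 4, 7, 6, 5]]

/-- Their commutator. -/
def sevenC : List ℕ := [3, 4, 5, 4, 3, 6, 5, 4, 3, 5, 4, 3, 5, 6, 5, 4, 3, 2, 5, 4, 6, 5, 4, 3]

/-- Two normalising words. -/
def sevenNorm : List (List ℕ) := [[6], [5, 6, 7, 6, 5]]

/-- Its elements by words in the generators, sorted by key. -/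
def sevenElems : List (List ℕ) := [[1], [1, 0], [1, 1], [], [1, 0, 0, 0, 0, 0, 0], [1, 0, 0, 0, 0, 0], [1, 1, 1, 1, 1, 1], [1, 1, 1], [1, 0, 0], [0, 0, 0, 0, 0, 0, 1, 1, 1, 1, 1, 1], [0, 0, 1, 1, 0, 1, 1, 1], [0, 0, 0, 1, 0, 0, 0, 0], [0, 0, 0, 0, 0, 1, 1, 0], [0, 0, 0, 0, 0, 0, 1, 0], [1, 1, 1, 1], [1, 0, 0, 0], [0, 0, 0, 0, 1, 1, 1, 1, 1, 1, 0, 1], [1, 1, 1, 1, 1], [1, 0, 0, 0, 0], [0, 0, 0, 0, 1, 1, 0, 1, 0], [0, 0, 0, 1, 1, 1, 0, 1], [0, 0, 1, 1, 1, 1, 0], [0, 0, 0, 0, 1, 0, 0, 0], [0, 0, 0, 0, 0, 1, 1, 1, 0, 1, 1, 1, 1], [0, 1, 0, 0, 0, 0, 0, 0], [0, 0, 0, 0, 0, 1, 0, 1, 0, 0], [0, 0, 0, 0, 0, 1, 1, 0, 1, 1, 1], [0, 0, 0, 1, 1, 0, 1, 1], [0, 0, 0, 1, 1, 1, 1, 0, 1, 1, 1], [0, 0, 1, 0, 1, 1, 0], [0, 0, 0, 0, 0, 0, 1, 1, 1, 1, 1, 0, 1, 1], [0, 0, 0, 1,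 1, 0, 0], [0, 0, 0, 1, 1, 0, 0, 0], [0], [0, 0, 1, 0, 1, 1, 1, 1, 0], [0, 0, 0, 0, 1, 1, 1, 1, 0, 1, 1, 1], [0, 0, 0, 0, 0, 1, 1, 0, 1, 1, 1, 1], [0, 0, 0, 1, 0, 1], [0, 0, 1, 1, 0, 1, 1], [0, 0, 0, 0, 0, 1, 0], [0, 0, 0, 0, 0, 1, 0, 1], [0, 0, 0, 0, 1, 0, 1, 1, 1, 1, 0], [0, 0, 0, 0], [0, 1, 1, 1, 1, 1, 0, 1], [0, 0, 0, 1, 1, 1, 1, 1, 0], [0, 0, 1, 1, 1, 1, 1, 0, 1, 1], [1, 1, 1, 1, 0, 1, 1, 1], [0, 0, 1, 1, 0, 1, 1, 0], [0, 1, 0, 0, 0], [0, 0, 0, 0, 0, 0, 1, 0, 1, 0], [0, 1, 1], [0, 0, 1, 1, 0, 1, 1, 1, 1], [0, 0, 0, 0, 0, 1, 1, 1, 0], [0, 0, 0, 0, 0, 1, 1, 1, 1], [0, 0, 0, 0, 0, 1, 1, 1, 0, 1], [0, 0, 1, 1, 1, 0, 1, 1], [0, 0, 1, 1, 0, 0], [1, 1, 1, 0, 1, 1, 1, 1], [0, 0, 1, 1, 1, 0, 1, 1, 1, 1], [0, 0, 0, 1, 1, 1, 1, 0, 1, 1], [1, 0, 1, 1, 1, 1], [0,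 0, 0, 0, 0, 0, 1, 1, 0], [0, 0, 0, 0, 0, 1, 1, 1, 1, 1, 1, 0, 1], [1, 1, 0], [0, 0, 0, 1, 1, 1, 1, 0, 1], [0, 0, 0, 0, 0, 0, 1, 1, 1, 1, 1, 0, 1], [0, 0, 0, 0, 0, 1], [0, 1, 1, 1, 0, 1, 1, 1, 1], [0, 0, 1, 1, 0, 0, 0], [0, 1, 0, 1, 1, 0], [0, 0, 0, 0, 0, 1, 1, 1, 1, 1, 0, 1, 1], [0, 0, 0, 0, 0, 1, 1, 0, 1, 1, 1, 1, 1], [0, 0, 0, 0, 0, 0, 1, 1, 0, 0, 0], [0, 0, 1, 1, 1, 1], [0, 0, 1, 1, 1, 1, 0, 1], [0, 0, 1, 0, 0, 0, 0], [1, 0, 1, 0], [1, 1, 0, 1], [0, 1, 0, 1, 1, 1, 1, 1, 1], [1, 1, 1, 1, 0, 1], [0, 0, 0, 0, 0, 0, 1, 0, 1, 1, 1, 1], [0, 0, 0, 0, 0, 1, 1, 1, 1, 0, 1, 1, 1], [0, 0, 0, 0, 1, 1, 0, 1, 1, 0], [1, 1, 1, 1, 1, 0, 1, 1], [1, 1, 1, 0, 0], [0, 0, 0, 0, 0, 0, 1, 0, 1, 1, 1, 0], [0, 1, 1, 0, 0, 0], [0, 1, 0, 1, 1, 1, 1], [0, 0, 1, 0, 1], [0, 0, 0,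 0, 1, 0, 0, 0, 0, 0, 0], [0, 0, 1, 0], [0, 1, 0, 1, 1, 1, 1, 0], [0, 0, 0, 1, 1, 0, 1, 0], [0, 0, 0, 1, 1, 0, 1, 1, 1], [0, 0, 0, 0, 0, 0, 1, 0, 0, 0, 0, 0], [1, 1, 1, 1, 1, 1, 0, 1], [0, 0, 0, 0, 0, 0, 1, 1, 0, 1, 1], [0, 0, 0, 0, 1, 1, 0, 1], [1, 1, 0, 1, 1, 1, 1, 1], [0, 1, 0, 1, 1, 1, 1, 1], [0, 0, 0, 0, 0, 0, 1, 1], [0, 0, 0, 0, 1, 1, 1, 0, 1, 1], [1, 1, 1, 1, 0], [0, 0, 0, 0, 0, 0, 1, 0, 1, 1, 1, 1, 1], [0, 1, 1, 0, 1, 1, 1, 1, 1], [0, 0, 1, 0, 0, 0, 0, 0], [0, 0, 0, 0, 1, 0, 1, 0], [0, 0, 0, 1, 1, 1, 1], [0, 0, 1, 1, 1, 0, 1], [1, 0, 1, 1], [0, 0, 1, 0, 1, 0, 0], [0, 0, 0, 0, 0, 1, 0, 1, 1, 1, 0], [0, 0, 0, 0, 0, 1, 0, 0], [0, 0, 0, 0, 0, 0, 1, 1, 0, 1, 1, 0], [0, 0, 0, 0, 0, 1, 1, 0, 0, 0], [0, 1, 0, 1, 0], [0, 1, 1, 1, 0, 1, 1], [0, 0, 1, 0, 1,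 1, 1], [1, 0, 1, 1, 1], [0, 0, 0, 0, 1, 0, 1, 1, 1], [0, 0, 1, 0, 1, 1, 1, 1, 1], [0, 0, 0, 0, 0, 0, 1, 1, 1, 1, 0, 1, 1, 1], [0, 0, 0, 0, 0, 1, 0, 1, 1, 1], [0, 1, 1, 0, 1, 1, 0], [0, 1, 1, 1, 1, 1, 1], [0, 0, 0, 0, 1, 1, 1, 0, 0], [0, 0], [0, 0, 0, 1, 1, 1, 1, 0], [0, 0, 0, 0, 0, 0], [1, 0, 1], [0, 0, 0, 0, 0, 0, 1, 1, 0, 1], [0, 0, 1, 0, 0, 0], [0, 1, 0, 1], [0, 0, 0, 0, 0, 1, 0, 0, 0, 0, 0], [0, 0, 1, 1, 1, 1, 1, 0], [1, 1, 0, 0], [0, 0, 0, 0, 0, 0, 1, 1, 1, 1, 1, 0], [0, 0, 0, 0, 1, 1, 1, 1, 1, 1], [0, 1, 0, 1, 1], [0, 1, 1, 1, 1, 1, 0, 1, 1], [0, 0, 0, 0, 0, 0, 1, 1, 1, 0, 1], [0, 0, 0, 0, 1, 0, 1], [0, 0, 0, 0, 1, 0, 0], [0, 0, 0, 0, 1, 1, 1, 1, 1, 0], [0, 0, 0, 0, 1, 1, 1, 1, 0, 1], [0, 1, 1, 1, 1, 1, 1, 0], [0, 1, 1, 1, 1, 0, 1], [0, 1, 1, 1, 0],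 [1, 1, 0, 1, 0], [0, 1, 1, 1, 0, 1], [0, 0, 1, 0, 1, 1], [0, 0, 0, 0, 0, 0, 1, 1, 1, 1], [0, 0, 0, 1, 1, 1, 1, 1, 1, 0], [0, 0, 0, 0, 0, 1, 1, 0, 1, 1, 0], [1, 1, 1, 0, 1, 1], [0, 1, 0], [0, 0, 0, 1, 1, 1, 1, 1, 0, 1, 1], [0, 0, 0, 0, 0, 1, 1, 1, 0, 0], [0, 0, 0, 0, 0, 1, 1, 0, 1, 0], [0, 0, 0, 0, 0, 0, 1, 1, 0, 0], [0, 0, 0, 0, 0, 0, 1, 0, 0, 0], [0, 0, 0, 0, 0, 1, 1, 1, 1, 0, 1], [0, 0, 1, 1, 1, 1, 1, 1], [0, 0, 1, 1, 0], [0, 0, 0, 1, 1, 0, 1, 1, 1, 1, 1], [1, 1, 1, 1, 1, 0, 1], [0, 0, 0, 0, 0, 0, 1, 0, 1, 1], [0, 1, 0, 1, 0, 0], [0, 0, 1, 1, 1, 1, 1, 0, 1], [0, 0, 1, 0, 0, 0, 0, 0, 0], [0, 0, 0, 1], [0, 0, 0, 0, 1, 1, 1, 0, 1, 1, 1], [0, 1, 1, 1, 1, 1], [0, 0, 0, 0, 1, 1, 1, 1, 1, 0, 1], [0, 1, 1, 0, 1, 1, 1, 1], [0, 0, 0, 0, 1, 0, 1, 1], [0, 0, 0, 1,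 1, 1, 1, 1, 1, 0, 1], [0, 0, 0, 0, 1, 1, 1, 0], [0, 0, 0, 0, 1, 0, 1, 1, 1, 1, 1], [0, 0, 0, 0, 0, 0, 1, 1, 1, 0], [0, 0, 0, 0, 1, 1, 1, 1, 1, 1, 0], [0, 0, 0, 1, 1, 1, 1, 1, 0, 1], [1, 1, 1, 1, 1, 0], [0, 1, 0, 0, 0, 0], [0, 1, 1, 0], [0, 0, 0, 0, 1, 1, 0, 1, 1, 1], [1, 0, 1, 1, 1, 1, 1], [0, 0, 0, 0, 1, 1, 0, 0, 0], [0, 0, 0, 0, 1, 0, 1, 1, 0], [0, 0, 0, 0, 0, 1, 1, 1, 1, 1, 0, 1], [0, 0, 0, 0, 1, 1, 1, 1, 1, 0, 1, 1], [0, 0, 0, 0, 0, 0, 1, 1, 0, 1, 1, 1], [0, 1, 0, 1, 1, 1], [0, 1], [0, 1, 1, 0, 1, 0], [0, 0, 0, 0, 1, 0, 1, 1, 1, 1], [0, 0, 0, 0, 0, 0, 1, 1, 1, 0, 0], [0, 0, 0, 0, 0, 1, 0, 1, 0], [0, 1, 1, 1, 0, 1, 1, 1], [0, 0, 0, 1, 0, 1, 1, 1], [0, 0, 0, 0, 0, 0, 1, 1, 0, 1, 1, 1, 1], [0, 0, 0, 0, 0, 1, 1, 1], [0, 0, 0, 1, 0, 1, 1, 0], [0, 0, 0, 1,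 1, 1, 1, 1], [0, 0, 0, 0, 1, 1, 1, 1, 0], [0, 0, 0, 0, 0, 0, 1, 1, 0, 1, 1, 1, 1, 1], [0, 0, 1, 1, 1, 0, 0], [0, 0, 0, 0, 0, 1, 1, 1, 1, 1, 1, 0], [0, 0, 0, 1, 0, 1, 0, 0], [1, 0, 1, 1, 1, 1, 1, 1], [0, 0, 0, 1, 1, 1, 0], [0, 0, 0, 0, 0, 0, 1, 0, 1], [0, 1, 1, 0, 1], [0, 0, 1, 0, 1, 1, 1, 1], [0, 0, 0, 1, 0, 1, 0], [0, 0, 0, 0, 1, 1, 1, 1], [0, 0, 1, 1, 1, 0], [0, 0, 0, 1, 1, 0, 1, 1, 1, 1], [0, 0, 0, 0, 0, 1, 0, 0, 0, 0], [0, 0, 0, 1, 0], [0, 0, 0, 0, 0, 1, 0, 1, 1, 1, 1, 1, 1], [0, 0, 0, 0, 0, 0, 1, 1, 1, 0, 1, 1], [0, 0, 0, 1, 0, 1, 1], [0, 0, 0, 0, 1, 1, 1, 0, 1, 1, 1, 1], [0, 0, 1, 1, 1], [0, 0, 0, 0, 1, 1, 0, 1, 1, 1, 1, 1], [0, 0, 0, 0, 0, 0, 1, 1, 1, 1, 0, 1], [0, 0, 0, 0, 1, 0, 1, 1, 1, 1, 1, 1], [0, 0, 0, 1, 0, 0, 0], [0, 0, 0, 1, 1, 1, 0, 1, 1],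 [1, 0, 1, 1, 1, 0], [0, 0, 0, 1, 0, 1, 1, 1, 0], [0, 0, 0, 0, 0, 1, 1, 1, 0, 1, 1, 1], [0, 0, 0, 0, 0, 0, 1, 0, 1, 1, 0], [0, 0, 0, 1, 1, 0, 1, 1, 0], [0, 0, 0, 1, 1, 1, 0, 1, 1, 1], [0, 0, 0, 0, 1, 0, 0, 0, 0], [0, 0, 1, 1, 1, 1, 1, 1, 0, 1], [0, 0, 0, 0, 0, 1, 1, 1, 1, 1, 0], [0, 0, 0, 0, 0, 1, 0, 1, 1], [1, 1, 1, 0], [0, 0, 0, 1, 1, 0, 1], [0, 0, 1, 0, 1, 0], [0, 0, 0, 0, 0, 0, 1, 1, 1, 1, 1, 1, 0], [0, 0, 0], [0, 1, 0, 0, 0, 0, 0], [0, 0, 0, 0, 0, 0, 1, 0, 0, 0, 0], [0, 0, 0, 0, 0, 1, 1, 1, 1, 1, 1], [0, 0, 0, 0, 0, 1, 0, 1, 1, 1, 1], [1, 0, 1, 1, 0], [0, 0, 0, 0, 0, 0, 1, 0, 1, 1, 1, 1, 0], [0, 0, 1, 1, 1, 1, 0, 1, 1, 1], [0, 0, 0, 1, 1, 1, 0, 1, 1, 1, 1], [1, 1, 0, 1, 1, 0], [0, 0, 0, 0, 0, 1, 0, 0, 0], [0, 0, 0, 0, 0, 0, 1, 1, 1, 1, 0], [0, 0, 0,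 0, 0, 1, 1, 0, 0], [0, 0, 0, 0, 1, 0], [0, 0, 1, 1, 1, 1, 0, 1, 1], [0, 0, 1, 1, 1, 0, 1, 1, 1], [0, 0, 0, 1, 0, 1, 1, 1, 1], [1, 1, 0, 1, 1], [0, 0, 0, 0, 1, 1, 0, 1, 1, 1, 1], [0, 0, 0, 1, 1, 0], [0, 0, 0, 0, 0, 1, 0, 1, 1, 1, 1, 0], [1, 1, 1, 0, 1], [0, 0, 0, 1, 0, 1, 1, 1, 1, 0], [0, 0, 1, 0, 1, 1, 1, 0], [0, 0, 0, 0, 0, 0, 1, 1, 1, 1, 0, 1, 1], [0, 0, 0, 0, 1, 1, 0, 0], [0, 0, 0, 0, 1, 1, 1, 1, 1], [0, 0, 0, 0, 0, 0, 1, 0, 0, 0, 0, 0, 0], [0, 0, 0, 1, 1, 1, 0, 0], [0, 0, 0, 0, 0, 0, 1, 0, 0], [0, 1, 1, 1, 1, 1, 0], [0, 1, 1, 1], [0, 0, 0, 0, 1], [0, 0, 0, 0, 1, 1, 0], [0, 0, 1, 1, 0, 1, 1, 1, 1, 1], [0, 0, 1, 0, 0], [0, 0, 0, 0, 1, 1, 1, 0, 1], [0, 0, 0, 0, 0], [0, 1, 0, 1, 1, 1, 0], [0, 0, 0, 0, 0, 0, 1, 0, 1, 0, 0], [0, 0, 0, 0, 0, 0, 1, 0, 1, 1,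 1, 1, 1, 1], [0, 0, 0, 0, 0, 1, 0, 1, 1, 1, 1, 1], [0, 0, 0, 0, 0, 0, 1, 1, 1], [0, 0, 0, 0, 0, 0, 1, 1, 1, 1, 1, 1, 0, 1], [0, 0, 0, 0, 0, 0, 1], [1, 1, 1, 1, 1, 1, 0], [1, 1, 0, 0, 0], [1, 0, 1, 0, 0], [0, 0, 0, 1, 0, 1, 1, 1, 1, 1], [0, 1, 1, 1, 0, 0], [0, 0, 0, 0, 1, 1, 0, 1, 1], [1, 1, 1, 0, 1, 1, 1], [1, 0, 1, 1, 1, 1, 0], [0, 1, 1, 1, 1, 1, 1, 0, 1], [0, 0, 1], [0, 0, 0, 0, 0, 1, 1, 0, 1], [1, 1, 0, 1, 1, 1], [0, 0, 0, 0, 1, 1, 1, 1, 0, 1, 1], [0, 0, 0, 0, 1, 0, 1, 0, 0], [0, 0, 1, 1, 0, 1, 0], [0, 0, 0, 0, 0, 1, 0, 0, 0, 0, 0, 0], [0, 0, 0, 0, 1, 0, 0, 0, 0, 0], [0, 1, 1, 1, 1, 0, 1, 1], [0, 0, 0, 1, 0, 0, 0, 0, 0, 0], [0, 0, 0, 1, 1, 1, 1, 1, 1], [0, 0, 0, 0, 0, 1, 0, 1, 1, 0], [0, 0, 0, 0, 0, 1, 1], [0, 0, 0, 0, 0, 1, 1, 0, 1, 1], [0, 1, 1, 0,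 1, 1, 1], [0, 0, 0, 0, 0, 1, 1, 1, 1, 0, 1, 1], [0, 0, 0, 1, 0, 0, 0, 0, 0], [0, 0, 0, 1, 1], [0, 0, 0, 0, 1, 0, 1, 1, 1, 0], [0, 1, 1, 0, 0], [0, 1, 0, 0], [0, 0, 0, 0, 0, 1, 1, 1, 1, 0], [0, 0, 1, 1], [0, 0, 0, 0, 1, 1], [0, 0, 1, 1, 0, 1], [0, 1, 1, 1, 1, 0, 1, 1, 1], [0, 0, 0, 0, 0, 0, 1, 1, 1, 0, 1, 1, 1], [0, 0, 0, 0, 0, 0, 1, 1, 1, 0, 1, 1, 1, 1], [0, 0, 0, 1, 0, 0], [0, 0, 0, 0, 0, 0, 1, 0, 1, 1, 1], [0, 0, 0, 0, 0, 0, 1, 1, 1, 1, 1], [0, 0, 1, 0, 1, 1, 1, 1, 1, 1], [0, 0, 0, 0, 0, 0, 1, 1, 0, 1, 0], [1, 1, 1, 1, 0, 1, 1], [0, 0, 0, 1, 0, 1, 1, 1, 1, 1, 1], [1, 1, 0, 1, 1, 1, 1], [0, 0, 0, 0, 0, 1, 1, 1, 1, 1], [0, 0, 1, 1, 1, 1, 1, 1, 0], [0, 0, 0, 0, 0, 1, 1, 1, 0, 1, 1], [0, 1, 1, 1, 1, 0], [0, 0, 0, 0, 1, 1, 1], [0, 1, 1, 1, 1], [0, 0, 1, 1,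 1, 1, 1], [0, 0, 0, 1, 1, 1], [0, 1, 1, 0, 1, 1]]

/-- Products with the generators. -/
def sevenNext : List (List ℕ) := [[1, 2], [8, 129], [63, 7], [33, 0], [0, 32], [4, 110], [289, 3], [240, 14], [15, 184], [243, 128], [270, 51], [314, 256], [256, 299], [273, 211], [102, 17], [18, 115], [62, 271], [182, 6], [5, 56], [166, 316], [53, 229], [199, 74], [236, 197], [325, 228], [193, 187], [320, 330], [17, 36], [234, 93], [35, 18], [201, 127], [83, 105], [32, 202], [211, 125], [126, 193], [144, 152], [81, 183], [103, 71], [214, 222], [47, 10], [112, 40], [197, 239], [226, 207], [281, 276], [258, 139], [101, 181], [156, 133], [323, 236], [280, 34], [183, 242], [283, 240], [184, 275], [292, 278], [157, 54], [319, 334], [14, 336], [260, 259], [68, 29], [67, 254],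 [252, 15], [171, 28], [296, 186], [159, 130], [287, 4], [135, 77], [185, 59], [331, 30], [39, 310], [58, 160], [40, 272], [338, 21], [30, 245], [205, 142], [88, 84], [21, 340], [93, 258], [105, 269], [291, 147], [148, 261], [329, 155], [312, 331], [250, 103], [121, 75], [140, 41], [139, 314], [322, 253], [342, 182], [141, 206], [91, 99], [242, 150], [276, 290], [279, 88], [64, 335], [239, 231], [334, 217], [271, 167], [297, 169], [113, 191], [19, 294], [104, 273], [308, 78], [61, 286], [248, 171], [192, 79], [124, 284], [278, 8], [169, 302], [302, 52], [127, 203], [215, 55], [249, 118], [100, 92], [261, 136], [254, 61], [149, 250], [132, 196], [167, 216], [213, 198], [267, 213], [230, 60], [316, 195], [137, 329], [46, 11], [111, 248], [20, 91], [145, 33],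 [130, 82], [244, 298], [119, 64], [3, 288], [76, 109], [330, 96], [75, 214], [115, 138], [304, 291], [229, 168], [290, 249], [154, 65], [180, 42], [69, 192], [45, 305], [339, 221], [106, 175], [22, 12], [336, 173], [26, 301], [168, 297], [10, 306], [293, 149], [150, 230], [107, 116], [29, 117], [255, 328], [173, 176], [265, 264], [87, 295], [318, 132], [190, 94], [77, 153], [109, 111], [72, 233], [246, 76], [191, 313], [335, 126], [56, 322], [225, 279], [306, 83], [233, 327], [310, 303], [59, 45], [298, 114], [219, 315], [36, 223], [274, 124], [313, 190], [120, 104], [188, 119], [16, 304], [125, 280], [9, 227], [196, 140], [189, 16], [301, 156], [116, 165], [245, 31], [317, 212], [328, 262], [162, 209], [129, 157], [7, 319], [268, 70], [70, 5], [172, 200],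 [282, 87], [155, 50], [222, 282], [41, 178], [212, 113], [25, 179], [51, 67], [231, 260], [186, 205], [52, 53], [286, 204], [44, 308], [122, 144], [98, 112], [97, 47], [65, 62], [2, 19], [78, 1], [272, 20], [49, 166], [194, 342], [34, 120], [208, 177], [204, 270], [206, 108], [178, 164], [133, 135], [326, 37], [284, 39], [60, 324], [202, 199], [23, 131], [216, 73], [71, 326], [300, 268], [220, 257], [11, 106], [195, 235], [38, 274], [311, 143], [200, 23], [224, 102], [54, 266], [262, 252], [305, 159], [176, 89], [221, 189], [309, 122], [84, 265], [92, 27], [110, 210], [165, 287], [42, 170], [24, 208], [94, 317], [207, 281], [264, 285], [341, 337], [146, 289], [28, 246], [223, 48], [108, 296], [218, 49], [118, 226], [114, 309], [142, 141], [235, 251], [217,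 58], [266, 292], [253, 300], [285, 225], [31, 241], [79, 243], [73, 154], [161, 180], [294, 44], [295, 121], [187, 188], [143, 137], [288, 68], [299, 234], [160, 63], [55, 43], [147, 339], [257, 321], [269, 97], [164, 318], [131, 263], [151, 101], [128, 66], [27, 134], [315, 148], [209, 13], [6, 220], [179, 151], [95, 24], [13, 100], [43, 95], [37, 293], [321, 194], [247, 332], [241, 123], [82, 185], [174, 57], [74, 145], [237, 307], [90, 320], [158, 311], [340, 333], [232, 35], [50, 158], [175, 267], [66, 86], [89, 283], [259, 323], [170, 72], [152, 244], [275, 255], [12, 201], [153, 26], [203, 174], [324, 81], [307, 25], [263, 341], [96, 238], [86, 69], [48, 163], [327, 161], [163, 224], [277, 338], [303, 38], [251, 218], [333, 325], [57, 22], [228, 277],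 [85, 80], [136, 9], [332, 90], [138, 85], [198, 46], [227, 219], [99, 98], [238, 247], [181, 237], [80, 232], [117, 146], [177, 215], [337, 172], [134, 162], [210, 107], [123, 312]]

/-- Elements of orders 5, 11, 19 and 31. -/
def cyclicWords : List (List ℕ) := [[4, 5, 0, 3], [6, 0, 3, 4, 5], [2, 4, 3, 7, 6, 5], [6, 5, 4, 0, 3]]

end Cfsg.Agent.Lib.ON3Mult
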