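import Cfsg.Agent.Lib.ON3Mult.Words
import Cfsg.Agent.Lib.ON3Mult.OddData
import Cfsg.Agent.Lib.Schur.InvertedAbelian

/-!
# The 3-part of the multiplier of the O'Nan group is cyclic of order at most three

A Sylow 3-subgroup is elementary abelian of order 81.  The commutators of lifts of a basis satisfy
linear equations coming from two normalising elements, and these leave one free value.
-/

set_option autoImplicit false
set_option maxRecDepth 20000
set_option Elab.async false

namespace Cfsg.Agent.Lib.ON3Mult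

open Cfsg.Agent.Lib.Schur
open scoped commutatorElement IsMulCommutative

universe u

/-- The basis elements. -/
noncomputable def threeEl (i : Fin 4) : G := el (threeGens.getD i.1 [])

theorem three_genOk : ((List.range 4).all fun i => eqW (powW (threeGens.getD i []) 3) [] &&
    (List.range 4).all fun j => eqW (threeGens.getD i [] ++ threeGens.getD j [])
      (threeGens.getD j [] ++ threeGens.getD i [])) = true := by decide +kernel

theorem threeEl_comm (i j : Fin 4) : Commute (threeEl i) (threeEl j) := by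
  have h := three_genOk
  simp only [List.all_eq_true, List.mem_range, Bool.and_eq_true] at h
  have := el_eq ((h i.1 i.2).2 j.1 j.2)
  rwa [el_append, el_append] at this

theorem threeEl_pow (i : Fin 4) : threeEl i ^ 3 = 1 := by
  have h := three_genOk
  simp only [List.all_eq_true, List.mem_range, Bool.and_eq_true] at h
  have := el_eq (h i.1 i.2).1
  rwa [el_powW, el_nil] at this

/-- The Sylow 3-subgroup. -/
noncomputable def threeSub : Subgroup G :=
  Subgroup.closure (Set.range fun i : Fin threeGens.length => el (threeGens.getD i.1 []))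

theorem three_listed : listedOk threeGens threeElems threeNext = true := by decide +kernel

theorem card_threeSub : Nat.card threeSub = 81 :=
  (card_closure_of_listed three_listed).trans (by decide +kernel)

theorem not_three_dvd_index : ¬ 3 ∣ threeSub.index := by
  intro hd
  have h := Nat.mul_dvd_mul_left (Nat.card threeSub) hd
  rw [Subgroup.card_mul_index, card_threeSub, card_G] at h
  norm_num at h

/-- The word of a combination. -/
def vecWord (e : List ℕ) : List ℕ :=
  powW (threeGens.getD 0 []) (e.getD 0 0) ++ powW (threeGens.getD 1 []) (e.getD 1 0) ++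
    powW (threeGens.getD 2 []) (e.getD 2 0) ++ powW (threeGens.getD 3 []) (e.getD 3 0)

theorem three_normOk : ((List.range 2).all fun t => (List.range 4).all fun i =>
    eqW (threeNorm.getD t [] ++ threeGens.getD i [])
      (vecWord ((threeMat.getD t []).getD i []) ++ threeNorm.getD t [])) = true := by decide +kernel

/-- An entry of a matrix. -/
def matEnt (t : ℕ) (i j : Fin 4) : ℕ := ((threeMat.getD t []).getD i.1 []).getD j.1 0

section Pairing

variable {Δ : Type u} [Group Δ]

open Classical in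
/-- The commutator as an element of the centre, written additively. -/
noncomputable def pr (x y : Δ) : Additive (Subgroup.center Δ) :=
  if h : ⁅x, y⁆ ∈ Subgroup.center Δ then Additive.ofMul ⟨_, h⟩ else 0

variable {H : Type*} [Group H] {τ : Δ →* H} (hk : τ.ker ≤ Subgroup.center Δ)

include hk

theorem pr_val {x y : Δ} (h : Commute (τ x) (τ y)) :
    ((pr x y).toMul : Δ) = ⁅x, y⁆ := by
  rw [pr, dif_pos (Fusion.central_of_commute hk h)]
  rfl

theorem pr_congr_val {x y : Δ} (h : Commute (τ x) (τ y)) (v : Additive (Subgroup.center Δ))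
    (he : ⁅x, y⁆ = (v.toMul : Δ)) : pr x y = v := by
  apply Additive.toMul.injective
  exact Subtype.ext ((pr_val hk h).trans he)

theorem pr_mul {x y z : Δ} (hy : Commute (τ x) (τ y)) (hz : Commute (τ x) (τ z)) :
    pr x (y * z) = pr x y + pr x z := by
  refine pr_congr_val hk (by rw [map_mul]; exact hy.mul_right hz) _ ?_
  rw [Fusion.commutator_mul_right hk hz, toMul_add, Subgroup.coe_mul, pr_val hk hy, pr_val hk hz]

theorem pr_pow {x y : Δ} (h : Commute (τ x) (τ y)) (n : ℕ) : pr x (y ^ n) = n • pr x y := by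
  refine pr_congr_val hk (by rw [map_pow]; exact h.pow_right n) _ ?_
  rw [Fusion.commutator_pow_right hk h, toMul_nsmul, SubmonoidClass.coe_pow, pr_val hk h]

theorem pr_swap {x y : Δ} (h : Commute (τ x) (τ y)) : pr y x = - pr x y := by
  refine pr_congr_val hk h.symm _ ?_
  rw [toMul_neg, Subgroup.coe_inv, pr_val hk h, commutatorElement_inv]

theorem pr_self (x : Δ) : pr x x = 0 := by
  refine pr_congr_val hk (Commute.refl _) _ ?_
  rw [commutatorElement_self]
  rfl

theorem pr_three {x y : Δ} (h : Commute (τ x) (τ y)) (hy : τ y ^ 3 = 1) : 3 • pr x y = 0 := by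
  apply Additive.toMul.injective
  refine Subtype.ext ?_
  rw [toMul_nsmul, SubmonoidClass.coe_pow, pr_val hk h, Fusion.commutator_pow_eq_one hk h hy]
  rfl

end Pairing

/-- The linear algebra: two normalising matrices leave one free value. -/
theorem three_linear {A : Type*} [AddCommGroup A] (u : Fin 4 → Fin 4 → A)
    (hanti : ∀ i j, u j i = - u i j) (hdiag : ∀ i, u i i = 0) (h3 : ∀ i j, 3 • u i j = 0)
    (heq : ∀ t < 2, ∀ i j, u i j = ∑ a, ∑ b, (matEnt t i a * matEnt t j b) • u a b) :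
    ∀ i j, u i j ∈ AddSubgroup.zmultiples (u 1 3) := by
  have e1 := heq 0 (by norm_num) 0 1
  have e2 := heq 0 (by norm_num) 0 2
  have e3 := heq 0 (by norm_num) 0 3
  have e4 := heq 0 (by norm_num) 1 2
  have e5 := heq 1 (by norm_num) 0 2
  simp only [Fin.sum_univ_four, matEnt, threeMat, List.getD_cons_zero, List.getD_cons_succ,
    Fin.val_zero, Fin.val_one, Fin.val_two, show ((3 : Fin 4) : ℕ) = 3 from rfl, hdiag,
    hanti 0 1, hanti 0 2, hanti 0 3, hanti 1 2, hanti 1 3, hanti 2 3, smul_zero, smul_neg] at e1 e2 e3 e4 e5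
  have t01 := h3 0 1
  have t02 := h3 0 2
  have t03 := h3 0 3
  have t12 := h3 1 2
  have t13 := h3 1 3
  have t23 := h3 2 3
  have key : (∃ m : ℤ, u 0 1 = m • u 1 3) ∧ (∃ m : ℤ, u 0 2 = m • u 1 3) ∧
      (∃ m : ℤ, u 0 3 = m • u 1 3) ∧ (∃ m : ℤ, u 1 2 = m • u 1 3) ∧ (∃ m : ℤ, u 2 3 = m • u 1 3) :=
    ⟨⟨2, by linear_combination (norm := module) (-2 : ℤ) • e1 + (-1 : ℤ) • e3 + (-2 : ℤ) • e5 + (-2 : ℤ) • e4 + (3 : ℤ) • t01 + (2 : ℤ) • t02 + (2 : ℤ) • t03 + (-1 : ℤ) • t13 + (1 : ℤ) • t23⟩,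
    ⟨1, by linear_combination (norm := module) (-1 : ℤ) • e4 + (-2 : ℤ) • e3 + (-2 : ℤ) • e2 + (3 : ℤ) • t01 + (3 : ℤ) • t02 + (4 : ℤ) • t03 + (-2 : ℤ) • t13⟩,
    ⟨1, by linear_combination (norm := module) (-2 : ℤ) • e1 + (-2 : ℤ) • e3 + (-2 : ℤ) • e2 + (-1 : ℤ) • e5 + (-1 : ℤ) • e4 + (3 : ℤ) • t01 + (3 : ℤ) • t02 + (5 : ℤ) • t03 + (1 : ℤ) • t23⟩,
    ⟨2, by linear_combination (norm := module) (-1 : ℤ) • e3 + (-1 : ℤ) • e2 + (-1 : ℤ) • e5 + (-1 : ℤ) • e4 + (2 : ℤ) • t01 + (2 : ℤ) • t02 + (2 : ℤ) • t03 + (-2 : ℤ) • t13⟩,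
    ⟨0, by linear_combination (norm := module) (-1 : ℤ) • e5 + (-1 : ℤ) • e4 + (1 : ℤ) • t01 + (1 : ℤ) • t02 + (-1 : ℤ) • t13⟩⟩
  obtain ⟨⟨a, ha⟩, ⟨b, hb⟩, ⟨c, hc⟩, ⟨d, hd⟩, ⟨f, hf⟩⟩ := key
  intro i j
  fin_cases i <;> fin_cases j <;> simp only [Fin.zero_eta, Fin.isValue, Fin.mk_one, Fin.reduceFinMk,
    hdiag, hanti 0 1, hanti 0 2, hanti 0 3, hanti 1 2, hanti 1 3, hanti 2 3] <;>
    first
    | exact zero_mem _
    | exact AddSubgroup.mem_zmultiples _
    | exact neg_mem (AddSubgroup.mem_zmultiples _)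
    | exact ⟨_, ha.symm⟩ | exact ⟨_, hb.symm⟩ | exact ⟨_, hc.symm⟩ | exact ⟨_, hd.symm⟩ | exact ⟨_, hf.symm⟩
    | exact neg_mem ⟨_, ha.symm⟩ | exact neg_mem ⟨_, hb.symm⟩ | exact neg_mem ⟨_, hc.symm⟩
    | exact neg_mem ⟨_, hd.symm⟩ | exact neg_mem ⟨_, hf.symm⟩

theorem three_commutator {Δ : Type} [Group Δ] [Finite Δ] {τ : Δ →* G} (hτ : Cfsg.IsStemExtension τ) :
    ∃ t ∈ τ.ker, t ^ 3 = 1 ∧ ⁅threeSub.comap τ, threeSub.comap τ⁆ ≤ Subgroup.zpowers t := by
  classical
  have hk := hτ.2.1
  choose A hA using fun i : Fin 4 => hτ.1 (threeEl i)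
  have hc : ∀ i j, Commute (τ (A i)) (τ (A j)) := fun i j => by rw [hA, hA]; exact threeEl_comm i j
  let V : (Fin 4 → ℕ) → Δ := fun e => A 0 ^ e 0 * A 1 ^ e 1 * A 2 ^ e 2 * A 3 ^ e 3
  have hVc : ∀ e i, Commute (τ (A i)) (τ (V e)) := fun e i => by
    simp only [V, map_mul, map_pow]
    exact (((hc i 0).pow_right _).mul_right ((hc i 1).pow_right _) |>.mul_right
      ((hc i 2).pow_right _)).mul_right ((hc i 3).pow_right _)
  have hright : ∀ (x : Δ), (∀ i, Commute (τ x) (τ (A i))) → ∀ e,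
      pr x (V e) = ∑ b, e b • pr x (A b) := by
    intro x hx e
    have p : ∀ b, Commute (τ x) (τ (A b ^ e b)) := fun b => by
      rw [map_pow]; exact (hx b).pow_right _
    simp only [V]
    rw [pr_mul hk (by rw [map_mul, map_mul]; exact ((p 0).mul_right (p 1)).mul_right (p 2)) (p 3),
      pr_mul hk (by rw [map_mul]; exact (p 0).mul_right (p 1)) (p 2), pr_mul hk (p 0) (p 1),
      Fin.sum_univ_four, pr_pow hk (hx 0), pr_pow hk (hx 1), pr_pow hk (hx 2), pr_pow hk (hx 3)]
  have hleft : ∀ e b, pr (V e) (A b) = ∑ a, e a • pr (A a) (A b) := by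
    intro e b
    rw [pr_swap hk (hVc e b), hright _ (fun i => hc b i), ← Finset.sum_neg_distrib]
    refine Finset.sum_congr rfl fun a _ => ?_
    rw [pr_swap hk (hc a b), smul_neg, neg_neg]
  have hconj : ∀ t < 2, ∀ i j,
      pr (A i) (A j) = ∑ a, ∑ b, (matEnt t i a * matEnt t j b) • pr (A a) (A b) := by
    intro t ht i j
    obtain ⟨n, hn⟩ := hτ.1 (el (threeNorm.getD t []))
    have h := three_normOk
    simp only [List.all_eq_true, List.mem_range] at h
    have himg : ∀ i : Fin 4, τ (V (matEnt t i)) = τ n * τ (A i) * (τ n)⁻¹ := by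
      intro i
      have h' := el_eq (h t ht i.1 i.2)
      rw [el_append, el_append, vecWord, el_append, el_append, el_append, el_powW, el_powW, el_powW,
        el_powW] at h'
      rw [eq_mul_inv_iff_mul_eq, hn, hA]
      simp only [V, map_mul, map_pow, hA]
      exact h'.symm
    have hcomm : Commute (τ (V (matEnt t i))) (τ (V (matEnt t j))) := by
      rw [himg i, himg j]
      exact (Commute.conj_iff _).2 (hc i j)
    have e := Fusion.commutator_conj hk (n := n) (hc i j) (himg i) (himg j)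
    have e' : pr (A i) (A j) = pr (V (matEnt t i)) (V (matEnt t j)) := by
      refine pr_congr_val hk (hc i j) _ ?_
      rw [pr_val hk hcomm, e]
    rw [e', hright _ (fun b => (hVc _ b).symm), Finset.sum_comm]
    refine Finset.sum_congr rfl fun b _ => ?_
    rw [hleft, Finset.smul_sum]
    refine Finset.sum_congr rfl fun a _ => ?_
    rw [mul_comm, mul_smul]
  have hspan := three_linear (fun i j => pr (A i) (A j)) (fun i j => pr_swap hk (hc i j))
    (fun i => pr_self hk _) (fun i j => pr_three hk (hc i j) (by rw [hA]; exact threeEl_pow j)) hconj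
  refine ⟨⁅A 1, A 3⁆, ?_, Fusion.commutator_pow_eq_one hk (hc 1 3) (by rw [hA]; exact threeEl_pow 3), ?_⟩
  · rw [MonoidHom.mem_ker, map_commutatorElement]
    exact commutatorElement_eq_one_iff_commute.2 (hc 1 3)
  set T : Set Δ := Set.range A ∪ (τ.ker : Set Δ)
  have hle : threeSub.comap τ ≤ Subgroup.closure T := by
    rw [Subgroup.closure_union, Subgroup.closure_eq]
    intro x hx
    have h1 : τ x ∈ (Subgroup.closure (Set.range A)).map τ := by
      rw [MonoidHom.map_closure, ← Set.range_comp]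
      refine (Subgroup.closure_le _).2 ?_ hx
      rintro _ ⟨i, rfl⟩
      exact Subgroup.subset_closure ⟨⟨i.1, i.2⟩, hA _⟩
    rwa [← Subgroup.mem_comap, Subgroup.comap_map_eq] at h1
  have hzc : ⁅A 1, A 3⁆ ∈ Subgroup.center Δ := Fusion.central_of_commute hk (hc 1 3)
  refine (Subgroup.commutator_mono hle hle).trans (Fusion.commutator_closure_le T _ ?_ ?_)
  · intro s _ k hk'
    obtain ⟨m, rfl⟩ := Subgroup.mem_zpowers_iff.1 hk'
    rw [Subgroup.mem_center_iff.1 (zpow_mem hzc m) s, mul_inv_cancel_right]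
    exact hk'
  · rintro s hs v hv
    have hone : ∀ x y : Δ, x ∈ Subgroup.center Δ → ⁅x, y⁆ = 1 ∧ ⁅y, x⁆ = 1 := fun x y hx =>
      ⟨commutatorElement_eq_one_iff_mul_comm.2 (Subgroup.mem_center_iff.1 hx y).symm,
        commutatorElement_eq_one_iff_mul_comm.2 (Subgroup.mem_center_iff.1 hx y)⟩
    rcases hs with ⟨i, rfl⟩ | hs
    · rcases hv with ⟨j, rfl⟩ | hv
      · obtain ⟨m, hm⟩ := hspan i j
        refine ⟨m, ?_⟩
        have h' := congrArg (fun w : Additive (Subgroup.center Δ) => (w.toMul : Δ)) hm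
        simp only [toMul_zsmul, Subgroup.coe_zpow, pr_val hk (hc _ _)] at h'
        exact h'
      · rw [(hone v _ (hk hv)).2]; exact one_mem _
    · rw [(hone s v (hk hs)).1]; exact one_mem _

end Cfsg.Agent.Lib.ON3Mult
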