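import Cfsg.Agent.Lib.ON3Mult.Words
import Cfsg.Agent.Lib.ON3Mult.TwoData

/-!
# The multiplier of the O'Nan group has no involution
-/

set_option autoImplicit false
set_option maxRecDepth 20000
set_option Elab.async false

namespace Cfsg.Agent.Lib.ON3Mult

open Cfsg.Agent.Lib.Schur

/-- The word of a normal form. -/
def twoWord (q : ℕ) : List ℕ := genWord twoGens (twoData.bits q)

/-- The conjugation of an equation is right. -/
noncomputable def conjOk : PcTails.Equat → Bool
  | .overlap _ _ _ => true
  | .conj x us vs _ => (List.range us.length).all fun k =>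
      eqW (twoConj.getD x [] ++ twoWord (us.getD k 0)) (twoWord (vs.getD k 0) ++ twoConj.getD x [])

theorem two_tableOk : twoData.tableOk = true := by decide +kernel

theorem two_cobOk : twoData.cobOk twoEqs twoCombos = true := by decide +kernel

theorem two_conjOk : twoEqs.all conjOk = true := by decide +kernel

theorem two_relOk : ((List.range twoData.n).all fun i => (List.range (i + 1)).all fun j =>
    eqW (twoGens.getD i [] ++ twoGens.getD j [])
      (if i = j then genWord twoGens (twoData.word i j)
        else twoGens.getD j [] ++ genWord twoGens (twoData.word i j))) = true := by decide +kernel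

theorem two_posOk : ((List.range (2 ^ twoData.n)).all fun q =>
    Nat.beq (twoOrd.getD (twoPos.getD q 0) 0) q && Nat.blt (twoPos.getD q 0) 512) = true := by
  decide +kernel

theorem two_incr : incr (twoOrd.map twoWord) = true := by decide +kernel

theorem two_ord_length : twoOrd.length = 512 := by decide +kernel

theorem killsPart_two : Fusion.KillsPart 2 (⊤ : Subgroup G) := by
  let g : ℕ → G := fun i => el (twoGens.getD i [])
  have hs : ∀ q, twoData.s g q = el (twoWord q) := fun q => by
    rw [← PcTails.Data.prod_bits, twoWord, el_genWord]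
  refine PcTails.killsPart_of_cert ⊤ twoData g two_tableOk two_cobOk (fun i hi j hj => ?_)
    (fun p hp q hq he => ?_) (fun x us vs w hmem => ?_) ?_
  · have h := two_relOk
    simp only [List.all_eq_true, List.mem_range] at h
    have h' := el_eq (h i hi j (Nat.lt_succ_of_le hj))
    rw [el_append] at h'
    show el _ * el _ = _
    rw [h']
    split_ifs with hij
    · rw [one_mul, el_genWord]
    · rw [el_append, el_genWord]
  · have h := two_posOk
    simp only [List.all_eq_true, List.mem_range, Bool.and_eq_true, Nat.beq_eq, Nat.blt_eq] at h
    obtain ⟨hp1, hp2⟩ := h p hp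
    obtain ⟨hq1, hq2⟩ := h q hq
    have hl : ∀ r, r < 512 → r < (twoOrd.map twoWord).length := fun r hr => by
      rw [List.length_map, two_ord_length]; exact hr
    have := el_injective two_incr (a₁ := ⟨_, hl _ hp2⟩) (a₂ := ⟨_, hl _ hq2⟩) (by
      simp only [List.getElem_map]
      rw [← List.getD_eq_getElem _ 0, ← List.getD_eq_getElem _ 0, hp1, hq1, ← hs, ← hs]
      exact he)
    rw [← hp1, ← hq1, show twoPos.getD p 0 = twoPos.getD q 0 from congrArg (fun r : Fin _ => r.1) this]
  · have h := List.all_eq_true.1 two_conjOk _ hmem
    simp only [conjOk, List.all_eq_true, List.mem_range] at h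
    refine ⟨el (twoConj.getD x []), fun k hk => mul_inv_eq_iff_eq_mul.2 ?_⟩
    rw [hs, hs, ← el_append, ← el_append]
    exact el_eq (h k hk)
  · rw [card_G]
    show ¬ 2 ^ (9 + 1) ∣ _
    norm_num

end Cfsg.Agent.Lib.ON3Mult
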