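import Cfsg.Agent.Lib.ON3Mult.Cover
import Cfsg.Agent.Lib.ON3Mult.Two
import Cfsg.Agent.Lib.ON3Mult.Three
import Cfsg.Agent.Lib.Schur.InvertedAbelian

/-!
# The Schur multiplier of the O'Nan group is cyclic of order three
-/

set_option autoImplicit false
set_option maxRecDepth 20000
set_option Elab.async false

namespace Cfsg.Agent.Lib.ON3Mult

open Cfsg.Agent.Lib.Schur
open scoped commutatorElement

theorem seven_listed : listedOk sevenGens sevenElems sevenNext = true := by decide +kernel

theorem seven_relOk : (eqW (powW (sevenGens.getD 0 []) 7) [] && eqW (powW (sevenGens.getD 1 []) 7) [] &&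
    eqW (powW sevenC 7) [] && okWord sevenC && !Nat.beq (key sevenC) (key []) &&
    eqW (sevenGens.getD 0 [] ++ sevenGens.getD 1 []) (sevenC ++ sevenGens.getD 1 [] ++ sevenGens.getD 0 []) &&
    eqW (sevenC ++ sevenGens.getD 0 []) (sevenGens.getD 0 [] ++ sevenC) &&
    eqW (sevenC ++ sevenGens.getD 1 []) (sevenGens.getD 1 [] ++ sevenC) &&
    eqW (sevenNorm.getD 0 [] ++ sevenC) (powW sevenC 6 ++ sevenNorm.getD 0 []) &&
    eqW (sevenNorm.getD 0 [] ++ sevenGens.getD 0 []) (sevenGens.getD 0 [] ++ sevenNorm.getD 0 []) &&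
    eqW (sevenNorm.getD 1 [] ++ sevenC) (powW sevenC 6 ++ sevenNorm.getD 1 []) &&
    eqW (sevenNorm.getD 1 [] ++ sevenGens.getD 1 []) (sevenGens.getD 1 [] ++ sevenNorm.getD 1 [])) = true := by
  decide +kernel

theorem exists_seven : ∃ P : Subgroup G, ¬ 7 ∣ P.index ∧ Fusion.KillsPart 7 P := by
  have h := seven_relOk
  simp only [Bool.and_eq_true, Bool.not_eq_true'] at h
  obtain ⟨⟨⟨⟨⟨⟨⟨⟨⟨⟨⟨hx, hy⟩, hc⟩, hok⟩, hc1⟩, hxy⟩, hcx⟩, hcy⟩, f1⟩, f2⟩, f3⟩, f4⟩ := h
  have he : ∀ {l l' : List ℕ}, eqW l l' = true → el l = el l' := fun h => el_eq h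
  set x := el (sevenGens.getD 0 [])
  set y := el (sevenGens.getD 1 [])
  set c := el sevenC
  set m₁ := el (sevenNorm.getD 0 [])
  set m₂ := el (sevenNorm.getD 1 [])
  have px : x ^ 7 = 1 := by rw [← el_powW, he hx, el_nil]
  have py : y ^ 7 = 1 := by rw [← el_powW, he hy, el_nil]
  have pc : c ^ 7 = 1 := by rw [← el_powW, he hc, el_nil]
  have exy : x * y = c * y * x := by
    have := he hxy; simp only [el_append] at this; exact this
  have ecx : Commute c x := by have := he hcx; simp only [el_append] at this; exact this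
  have ecy : Commute c y := by have := he hcy; simp only [el_append] at this; exact this
  have g1 : m₁ * c = c ^ 6 * m₁ := by have := he f1; simp only [el_append, el_powW] at this; exact this
  have g2 : m₁ * x = x * m₁ := by have := he f2; simp only [el_append] at this; exact this
  have g3 : m₂ * c = c ^ 6 * m₂ := by have := he f3; simp only [el_append, el_powW] at this; exact this
  have g4 : m₂ * y = y * m₂ := by have := he f4; simp only [el_append] at this; exact this
  have hne : c ≠ 1 := fun h => by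
    have := key_congr hok (show okWord [] = true by rfl) (h.trans el_nil.symm)
    rw [this, Nat.beq_refl] at hc1
    exact Bool.noConfusion hc1
  refine ⟨Subgroup.closure {x, y}, fun hd => ?_,
    InvertedAbelian.killsPart_extraspecial (by norm_num) x y c m₁ m₂ (a₁ := 6) (b₁ := 1) (i₁ := 0)
      (a₂ := 6) (b₂ := 1) (i₂ := 0) px py pc hne ?_ ecx ecy (by norm_num) (by norm_num)
      (mul_inv_eq_iff_eq_mul.2 g1) (by rw [pow_one, pow_zero, mul_one]; exact mul_inv_eq_iff_eq_mul.2 g2)
      (mul_inv_eq_iff_eq_mul.2 g3) (by rw [pow_one, pow_zero, mul_one]; exact mul_inv_eq_iff_eq_mul.2 g4)⟩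
  · have hcard := card_closure_of_listed seven_listed
    have hS : (Set.range fun i : Fin sevenGens.length => el (sevenGens.getD i.1 [])) = {x, y} := by
      ext z
      constructor
      · rintro ⟨i, rfl⟩
        have hi : i.1 < 2 := i.2
        rcases (show i.1 = 0 ∨ i.1 = 1 by omega) with h | h <;> simp [h, x, y]
      · rintro (rfl | rfl)
        · exact ⟨⟨0, by decide⟩, rfl⟩
        · exact ⟨⟨1, by decide⟩, rfl⟩
    rw [hS, show sevenElems.length = 343 by decide +kernel] at hcard
    have h := Nat.mul_dvd_mul_left (Nat.card (Subgroup.closure ({x, y} : Set G))) hd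
    rw [Subgroup.card_mul_index, hcard, card_G] at h
    norm_num at h
  · rw [commutatorElement_def, mul_inv_eq_iff_eq_mul, mul_inv_eq_iff_eq_mul]
    exact exy

theorem exists_cyclic {p : ℕ} (hp : p.Prime) (l : List ℕ)
    (hok : (eqW (powW l p) [] && okWord l && !Nat.beq (key l) (key [])) = true)
    (hidx : ¬ p ^ 2 ∣ 460815505920) : ∃ P : Subgroup G, ¬ p ∣ P.index ∧ Fusion.KillsPart p P := by
  simp only [Bool.and_eq_true, Bool.not_eq_true'] at hok
  obtain ⟨⟨h1, h2⟩, h3⟩ := hok
  have hpow : el l ^ p = 1 := by rw [← el_powW, el_eq h1, el_nil]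
  have hne : el l ≠ 1 := fun h => by
    have := key_congr h2 (show okWord [] = true by rfl) (h.trans el_nil.symm)
    rw [this, Nat.beq_refl] at h3
    exact Bool.noConfusion h3
  haveI : Fact p.Prime := ⟨hp⟩
  refine ⟨Subgroup.zpowers (el l), fun hd => hidx ?_, Fusion.killsPart_zpowers p _⟩
  rw [← card_G, ← (Subgroup.zpowers (el l)).card_mul_index, Nat.card_zpowers,
    orderOf_eq_prime hpow hne, pow_two]
  exact Nat.mul_dvd_mul_left p hd

theorem five_ok : (eqW (powW (cyclicWords.getD 0 []) 5) [] && okWord (cyclicWords.getD 0 []) &&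
    !Nat.beq (key (cyclicWords.getD 0 [])) (key [])) = true := by decide +kernel

theorem eleven_ok : (eqW (powW (cyclicWords.getD 1 []) 11) [] && okWord (cyclicWords.getD 1 []) &&
    !Nat.beq (key (cyclicWords.getD 1 [])) (key [])) = true := by decide +kernel

theorem nineteen_ok : (eqW (powW (cyclicWords.getD 2 []) 19) [] && okWord (cyclicWords.getD 2 []) &&
    !Nat.beq (key (cyclicWords.getD 2 [])) (key [])) = true := by decide +kernel

theorem thirtyone_ok : (eqW (powW (cyclicWords.getD 3 []) 31) [] && okWord (cyclicWords.getD 3 []) &&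
    !Nat.beq (key (cyclicWords.getD 3 [])) (key [])) = true := by decide +kernel

/-- Away from three nothing is left. -/
theorem exists_killer {p : ℕ} (hp : p.Prime) (h3 : p ≠ 3) (hd : p ∣ 460815505920) :
    ∃ P : Subgroup G, ¬ p ∣ P.index ∧ Fusion.KillsPart p P := by
  rw [show (460815505920 : ℕ) = 2 ^ 9 * 3 ^ 4 * 5 * 7 ^ 3 * 11 * 19 * 31 by norm_num] at hd
  simp only [hp.dvd_mul] at hd
  have one := fun {q : ℕ} (hq : q.Prime) (hd : p ∣ q) => (Nat.prime_dvd_prime_iff_eq hp hq).1 hd
  rcases hd with (((((h | h) | h) | h) | h) | h) | h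
  · obtain rfl := one Nat.prime_two (hp.dvd_of_dvd_pow h)
    exact ⟨⊤, by simp, killsPart_two⟩
  · exact absurd (one Nat.prime_three (hp.dvd_of_dvd_pow h)) h3
  · obtain rfl := one (by norm_num) h
    exact exists_cyclic hp _ five_ok (by norm_num)
  · obtain rfl := one (by norm_num) (hp.dvd_of_dvd_pow h)
    exact exists_seven
  · obtain rfl := one (by norm_num) h
    exact exists_cyclic hp _ eleven_ok (by norm_num)
  · obtain rfl := one (by norm_num) h
    exact exists_cyclic hp _ nineteen_ok (by norm_num)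
  · obtain rfl := one (by norm_num) h
    exact exists_cyclic hp _ thirtyone_ok (by norm_num)

/-- A kernel element of prime order other than three is trivial. -/
theorem eq_one_of_prime {Δ : Type} [Group Δ] [Finite Δ] {τ : Δ →* G} (hτ : Cfsg.IsStemExtension τ)
    {p : ℕ} (hp : p.Prime) (h3 : p ≠ 3) {z : Δ} (hz : z ∈ τ.ker) (hzp : z ^ p = 1) : z = 1 := by
  by_cases hd : p ∣ Nat.card G
  · obtain ⟨P, hP, hk⟩ := exists_killer hp h3 (card_G ▸ hd)
    exact Fusion.eq_one_of_killsPart hτ hp hP hk hz hzp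
  · exact Fusion.eq_one_of_not_dvd hτ hp hd hz hzp

/-- The multiplier has order dividing three. -/
theorem kernel_le {Δ : Type} [Group Δ] [Finite Δ] {τ : Δ →* G} (hτ : Cfsg.IsStemExtension τ) :
    ∃ t ∈ τ.ker, t ^ 3 = 1 ∧ ∀ z ∈ τ.ker, z ∈ Subgroup.zpowers t := by
  obtain ⟨t, htk, ht3, hle⟩ := three_commutator hτ
  refine ⟨t, htk, ht3, fun z hz => ?_⟩
  -- the order of `z` is a power of three
  have hord : (orderOf z).Coprime threeSub.index := by
    refine Nat.coprime_of_dvd fun p hp hpz hpi => ?_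
    have h3 : p = 3 := by
      by_contra h3
      have hw : (z ^ (orderOf z / p)) ^ p = 1 := by
        rw [← pow_mul, Nat.div_mul_cancel hpz, pow_orderOf_eq_one]
      have h1 := eq_one_of_prime hτ hp h3 (pow_mem hz _) hw
      have hdvd := orderOf_dvd_of_pow_eq_one h1
      have hpos : 0 < orderOf z / p :=
        Nat.div_pos (Nat.le_of_dvd (orderOf_pos z) hpz) hp.pos
      have := Nat.le_of_dvd hpos hdvd
      have hlt : orderOf z / p < orderOf z := Nat.div_lt_self (orderOf_pos z) hp.one_lt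
      omega
    subst h3
    exact not_three_dvd_index hpi
  have h := Fusion.pow_index_mem_commutator (threeSub.comap τ) (hτ.2.1 hz) (hτ.2.2 hz)
  rw [Subgroup.index_comap_of_surjective _ hτ.1] at h
  obtain ⟨m, hm⟩ := exists_pow_eq_self_of_coprime hord.symm
  rw [← hm]
  exact pow_mem (hle h) m

theorem multiplier : Cfsg.HasCyclicSchurMultiplier G 3 := by
  refine ⟨exists_cover, fun Δ _ _ τ hτ => ?_⟩
  obtain ⟨t, htk, ht3, hall⟩ := kernel_le hτ
  let f : ℤ →+ Additive τ.ker := zmultiplesHom _ (Additive.ofMul ⟨t, htk⟩)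
  have hf : f 3 = 0 := by
    apply Additive.toMul.injective
    apply Subtype.ext
    simp only [f, zmultiplesHom_apply, toMul_zsmul, toMul_zero, Subgroup.coe_zpow, toMul_ofMul,
      OneMemClass.coe_one]
    exact_mod_cast ht3
  refine ⟨AddMonoidHom.toMultiplicativeLeft (ZMod.lift 3 ⟨f, hf⟩), fun z => ?_⟩
  obtain ⟨m, hm⟩ := Subgroup.mem_zpowers_iff.1 (hall z.1 z.2)
  refine ⟨Multiplicative.ofAdd (m : ZMod 3), ?_⟩
  apply Subtype.ext
  show ((ZMod.lift 3 ⟨f, hf⟩ (m : ZMod 3)).toMul : Δ) = _
  rw [ZMod.lift_coe]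
  simpa [f] using hm

end Cfsg.Agent.Lib.ON3Mult
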