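import Cfsg.Agent.Lib.ON3Mult.Base

/-!
# Subgroups of the O'Nan group given by lists of words

A subgroup generated by words is listed when a list of products of the generators has increasing keys
and is closed under multiplication by the generators.
-/

set_option autoImplicit false
set_option maxRecDepth 20000
set_option Elab.async false

namespace Cfsg.Agent.Lib.ON3Mult

open Cfsg.Agent.Lib.CosetEnum

/-- Two words denote the same element: the boolean test. -/
noncomputable def eqW (l l' : List ℕ) : Bool :=
  okWord l && okWord l' && Nat.beq (key l) (key l')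

theorem el_eq {l l' : List ℕ} (h : eqW l l' = true) : el l = el l' := by
  simp only [eqW, Bool.and_eq_true] at h
  exact el_eq_of_key h.1.1 h.1.2 h.2

/-- A product of powers of a word. -/
def powW (l : List ℕ) (k : ℕ) : List ℕ := (List.replicate k l).flatten

theorem el_powW (l : List ℕ) (k : ℕ) : el (powW l k) = el l ^ k := el_replicate l k

/-- The word of a list of indices of generators. -/
def genWord (gens : List (List ℕ)) (l : List ℕ) : List ℕ := l.flatMap fun i => gens.getD i []

theorem el_genWord (gens : List (List ℕ)) (l : List ℕ) :
    el (genWord gens l) = (l.map fun i => el (gens.getD i [])).prod := by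
  induction l with
  | nil => rfl
  | cons i l ih => rw [genWord, List.flatMap_cons, el_append, ← genWord, ih, List.map_cons, List.prod_cons]

/-- The keys increase along the list. -/
noncomputable def incr : List (List ℕ) → Bool
  | [] => true
  | [l] => okWord l
  | l :: l' :: ls => okWord l && Nat.blt (key l) (key l') && incr (l' :: ls)

theorem incr_spec : ∀ {ls : List (List ℕ)}, incr ls = true →
    (∀ l ∈ ls, okWord l = true) ∧ (ls.map key).Pairwise (· < ·)
  | [], _ => by simp
  | [l], h => by simpa [incr] using h
  | l :: l' :: ls, h => by
    simp only [incr, Bool.and_eq_true, Nat.blt_eq] at h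
    obtain ⟨hok, hp⟩ := incr_spec h.2
    refine ⟨fun x hx => ?_, ?_⟩
    · rcases List.mem_cons.1 hx with rfl | hx
      · exact h.1.1
      · exact hok x hx
    · rw [List.map_cons, List.pairwise_cons]
      refine ⟨fun x hx => ?_, hp⟩
      rw [List.map_cons] at hp hx
      rcases List.mem_cons.1 hx with rfl | hx
      · exact h.1.2
      · exact lt_trans h.1.2 ((List.pairwise_cons.1 hp).1 x hx)

/-- Distinct indices of an increasing list give distinct elements. -/
theorem el_injective {ls : List (List ℕ)} (h : incr ls = true) :
    Function.Injective fun q : Fin ls.length => el ls[q.1] := by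
  obtain ⟨hok, hp⟩ := incr_spec h
  intro p q hpq
  have hk : key ls[p.1] = key ls[q.1] :=
    key_congr (hok _ (List.getElem_mem _)) (hok _ (List.getElem_mem _)) hpq
  have hm := List.pairwise_iff_getElem.1 hp
  rcases lt_trichotomy p.1 q.1 with hlt | heq | hlt
  · have := hm p.1 q.1 (by simp) (by simp) hlt
    simp only [List.getElem_map] at this
    omega
  · exact Fin.ext heq
  · have := hm q.1 p.1 (by simp) (by simp) hlt
    simp only [List.getElem_map] at this
    omega

/-- The check that `elems` lists the group generated by `gens`. -/
noncomputable def listedOk (gens : List (List ℕ)) (elems : List (List ℕ)) (next : List (List ℕ)) :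
    Bool :=
  incr (elems.map (genWord gens)) && elems.contains [] &&
    ((List.range elems.length).all fun q => (List.range gens.length).all fun i =>
      Nat.blt ((next.getD q []).getD i 0) elems.length &&
        eqW (genWord gens (elems.getD q []) ++ gens.getD i [])
          (genWord gens (elems.getD ((next.getD q []).getD i 0) [])))

/-- The order of a listed group. -/
theorem card_closure_of_listed {gens elems next : List (List ℕ)}
    (h : listedOk gens elems next = true) :
    Nat.card (Subgroup.closure (Set.range fun i : Fin gens.length => el (gens.getD i.1 []))) =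
      elems.length := by
  classical
  simp only [listedOk, Bool.and_eq_true, List.all_eq_true, List.mem_range, Nat.blt_eq,
    List.contains_iff_mem] at h
  obtain ⟨⟨hincr, hone⟩, hnext⟩ := h
  set S := Set.range fun i : Fin gens.length => el (gens.getD i.1 [])
  let f : Fin elems.length → G := fun q => el (genWord gens (elems.getD q.1 []))
  have hinj : Function.Injective f := by
    intro p q hpq
    have := el_injective hincr (a₁ := ⟨p.1, by simp⟩) (a₂ := ⟨q.1, by simp⟩) (by
      simp only [List.getElem_map, ← List.getD_eq_getElem _ [] p.2, ← List.getD_eq_getElem _ [] q.2]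
      exact hpq)
    simpa [Fin.ext_iff] using this
  have hsub : Set.range f ⊆ (Subgroup.closure S : Set G) := by
    rintro _ ⟨q, rfl⟩
    show el _ ∈ Subgroup.closure S
    rw [el_genWord]
    refine list_prod_mem fun x hx => ?_
    obtain ⟨i, -, rfl⟩ := List.mem_map.1 hx
    by_cases hi : i < gens.length
    · exact Subgroup.subset_closure ⟨⟨i, hi⟩, rfl⟩
    · rw [List.getD_eq_default _ _ (not_lt.1 hi), el_nil]
      exact one_mem _
  have hmul : ∀ x ∈ Submonoid.closure S, ∀ q, ∃ q', f q * x = f q' := by
    intro x hx
    induction hx using Submonoid.closure_induction with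
    | mem x hx =>
      obtain ⟨i, rfl⟩ := hx
      intro q
      obtain ⟨h1, h2⟩ := hnext q.1 q.2 i.1 i.2
      exact ⟨⟨_, h1⟩, (el_append _ _).symm.trans (el_eq h2)⟩
    | one => exact fun q => ⟨q, mul_one _⟩
    | mul u v _ _ ihu ihv =>
      intro q
      obtain ⟨q₁, h₁⟩ := ihu q
      obtain ⟨q₂, h₂⟩ := ihv q₁
      exact ⟨q₂, by rw [← mul_assoc, h₁, h₂]⟩
  have hrange : Set.range f = (Subgroup.closure S : Set G) := by
    refine Set.Subset.antisymm hsub fun x hx => ?_
    obtain ⟨q, hq, hqe⟩ := List.getElem_of_mem hone
    have hx' : x ∈ Submonoid.closure S := by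
      rw [← Subgroup.closure_toSubmonoid_of_finite]
      exact hx
    obtain ⟨q', hq'⟩ := hmul x hx' ⟨q, hq⟩
    refine ⟨q', hq'.symm.trans ?_⟩
    simp [f, hqe, genWord, el_nil]
  rw [show Nat.card (Subgroup.closure S) = Nat.card (Set.range f) by rw [hrange]; rfl,
    Nat.card_range_of_injective hinj, Nat.card_fin]

end Cfsg.Agent.Lib.ON3Mult
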